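import Mathlib
import Cfsg.Agent.H657.IBrBlock
import Cfsg.Agent.Characters.Brauer

/-!
# Brauer characters are generalized characters on the regular elements (helper699)

* `eq_phi`: the irreducible characters of a group of order prime to `p` are Brauer characters;
* `isCharacter_bc`: Brauer characters of groups of order prime to `p` are characters;
* `isGeneralizedCharacter_bc`: `g ↦ bc p σ (g ^ N)` is a generalized character, `g ^ N` the
  `p`-regular part of `g`.
-/

set_option autoImplicit false

universe u

namespace Cfsg.Agent.H699.IBrLift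

open Cfsg IsLocalRing Module Polynomial Cfsg.Agent.H657 Cfsg.Agent.Characters.Core
open scoped Matrix

attribute [local instance] Above.isAlgClosed

variable {V : ValuationSubring ℂ} {G : Type u} [Group G]

/-- The degree of a Brauer character. -/
theorem bc_one {p : ℕ} [Fact p.Prime] [CharP (ResidueField V) p] {W : Type*} [AddCommGroup W]
    [Module (ResidueField V) W] [FiniteDimensional (ResidueField V) W]
    (σ : Representation (ResidueField V) G W) : bc p σ 1 = (finrank (ResidueField V) W : ℂ) := by
  unfold bc
  have h1 : lift p (1 : ResidueField V) = 1 := by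
    have h2 := lift_residue (V := V) (p := p) (z := 1) ⟨1, by
      simpa using (Fact.out : p.Prime).one_lt.ne', by simp⟩
    rw [map_one] at h2
    simpa using h2
  have h3 : ((X : (ResidueField V)[X]) - 1) = X - C 1 := by rw [map_one]
  rw [map_one, LinearMap.charpoly_one, roots_pow, h3, roots_X_sub_C, Multiset.map_nsmul,
    Multiset.map_singleton, h1, Multiset.sum_nsmul, Multiset.sum_singleton, nsmul_eq_mul, mul_one]

theorem phi_one {p : ℕ} [Fact p.Prime] [CharP (ResidueField V) p] (i : IBr V G) :
    phi p i 1 = (i.deg : ℂ) := by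
  have hp : p.Prime := Fact.out
  rw [phi_of i (by unfold IsPRegular; rw [orderOf_one]; exact hp.not_dvd_one), bc_one,
    finrank_fin_fun]

theorem deg_pos (i : IBr V G) : 0 < i.deg := by
  have := finrank_ne_zero' i.rep i.rep_irr
  rw [finrank_fin_fun] at this
  exact Nat.pos_of_ne_zero this

/-- Schur orthogonality, in matrix form. -/
theorem schur [Fintype G] {T : Type*} [Fintype T] [DecidableEq T] {W : Type*} [AddCommGroup W]
    [Module ℂ W] [FiniteDimensional ℂ W]
    (ρ : Representation ℂ G W) (hρ : ρ.IsIrreducible) (b : Basis T ℂ W) (X : Matrix T T ℂ) :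
    (Fintype.card T : ℂ) • ∑ g, LinearMap.toMatrix b b (ρ g) * X * LinearMap.toMatrix b b (ρ g⁻¹) =
      ((Fintype.card G : ℂ) * X.trace) • (1 : Matrix T T ℂ) := by
  set f : Module.End ℂ W := Matrix.toLin b b X with hf
  set Z : Module.End ℂ W := ∑ g, ρ g * f * ρ g⁻¹ with hZ
  have hcomm : ∀ h : G, Z * ρ h = ρ h * Z := by
    intro h
    rw [hZ, Finset.sum_mul, Finset.mul_sum]
    refine Fintype.sum_equiv (Equiv.mulLeft h⁻¹) _ _ fun g => ?_
    rw [Equiv.coe_mulLeft, mul_inv_rev, inv_inv, ← mul_assoc, ← mul_assoc, ← map_mul,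
      mul_inv_cancel_left, map_mul, ← mul_assoc]
  let F : Representation.IntertwiningMap ρ ρ := ⟨Z, hcomm⟩
  obtain ⟨c, hc⟩ := (Representation.IsIrreducible.algebraMap_intertwiningMap_bijective_of_isAlgClosed
    (ρ := ρ)).2 F
  have hZc : Z = c • (1 : Module.End ℂ W) := by
    have h := congrArg (fun T : Representation.IntertwiningMap ρ ρ => T.toLinearMap) hc
    have h' : (algebraMap ℂ (Representation.IntertwiningMap ρ ρ) c).toLinearMap = Z := h
    rw [← h', Representation.IntertwiningMap.algebraMap_apply]
    rfl
  have htr1 : LinearMap.trace ℂ W Z = (Fintype.card G : ℂ) * X.trace := by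
    rw [hZ, map_sum]
    have h1 : ∀ g ∈ Finset.univ, LinearMap.trace ℂ W (ρ g * f * ρ g⁻¹) = X.trace := by
      intro g _
      rw [LinearMap.trace_mul_comm, ← mul_assoc, ← map_mul, inv_mul_cancel, map_one, one_mul, hf,
        Matrix.trace_toLin_eq]
    rw [Finset.sum_congr rfl h1, Finset.sum_const, Finset.card_univ, nsmul_eq_mul]
  have htr2 : LinearMap.trace ℂ W Z = c * (Fintype.card T : ℂ) := by
    rw [hZc, map_smul, LinearMap.trace_one, finrank_eq_card_basis b, smul_eq_mul]
  have hmat : ∑ g, LinearMap.toMatrix b b (ρ g) * X * LinearMap.toMatrix b b (ρ g⁻¹) =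
      LinearMap.toMatrix b b Z := by
    rw [hZ, map_sum]
    refine Finset.sum_congr rfl fun g _ => ?_
    rw [Module.End.mul_eq_comp, Module.End.mul_eq_comp, LinearMap.toMatrix_comp b b b,
      LinearMap.toMatrix_comp b b b, hf, LinearMap.toMatrix_toLin]
  rw [hmat, hZc, map_smul, smul_smul, mul_comm (Fintype.card T : ℂ), ← htr2, htr1]
  congr 1
  exact LinearMap.toMatrix_one b

/-- A representation whose algebra is everything is irreducible. -/
theorem isIrreducible_of_surjective {K : Type*} [Field K] {W : Type*} [AddCommGroup W] [Module K W]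
    [Nontrivial W] (σ : Representation K G W)
    (h : ∀ T : Module.End K W, ∃ a : MonoidAlgebra K G, σ.asAlgebraHom a = T) :
    σ.IsIrreducible := by
  have hmem : ∀ (U : Subrepresentation σ) (a : MonoidAlgebra K G) (w : W),
      w ∈ U.toSubmodule → σ.asAlgebraHom a w ∈ U.toSubmodule := by
    intro U a w hw
    induction a using MonoidAlgebra.induction_linear with
    | zero => rw [map_zero]; exact U.toSubmodule.zero_mem
    | add a b ha hb => rw [map_add]; exact U.toSubmodule.add_mem ha hb
    | single g r =>
      rw [Representation.asAlgebraHom_single]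
      exact U.toSubmodule.smul_mem r (U.apply_mem_toSubmodule g hw)
  obtain ⟨w₀, hw₀⟩ := exists_ne (0 : W)
  refine { exists_pair_ne := ⟨⊥, ⊤, fun hbt => ?_⟩, eq_bot_or_eq_top := fun U => ?_ }
  · apply hw₀
    have h1 : w₀ ∈ (⊤ : Subrepresentation σ).toSubmodule := Submodule.mem_top
    rw [← hbt] at h1
    exact (Submodule.mem_bot K).1 h1
  · by_cases hU : U.toSubmodule = ⊥
    · left
      exact Subrepresentation.toSubmodule_injective hU
    · right
      apply Subrepresentation.toSubmodule_injective
      show U.toSubmodule = ⊤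
      rw [eq_top_iff]
      intro w _
      obtain ⟨u, hu, hu0⟩ := Submodule.exists_mem_ne_zero_of_ne_bot hU
      obtain ⟨φ, hφ⟩ : ∃ φ : Module.Dual K W, φ u ≠ 0 := by
        by_contra hcon
        push Not at hcon
        exact hu0 ((Module.forall_dual_apply_eq_zero_iff K u).1 hcon)
      obtain ⟨a, ha⟩ := h ((φ u)⁻¹ • φ.smulRight w)
      have h1 := hmem U a u hu
      rw [ha, LinearMap.smul_apply, LinearMap.smulRight_apply, smul_smul, inv_mul_cancel₀ hφ,
        one_smul] at h1
      exact h1

/-- The irreducible characters of a group of order prime to `p` have irreducible reductions. -/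
theorem exists_irr_red [Finite G] {p : ℕ} [Fact p.Prime] [CharP (ResidueField V) p]
    (hcard : ¬ p ∣ Nat.card G) {χ : G → ℂ} (hχ : IsIrrCharacter G χ) :
    ∃ i : IBr V G, χ 1 = (i.deg : ℂ) ∧ ∀ g, ∃ z : V, (z : ℂ) = χ g ∧ residue V z = i.1 g := by
  classical
  have := Fintype.ofFinite G
  obtain ⟨N, ρ, hρ, rfl⟩ := hχ
  obtain ⟨T, b, hb⟩ := Reduce.exists_integral_basis V ρ
  let A : G → Matrix T T V := fun g => Matrix.of fun i j => ⟨b.repr (ρ g (b j)) i, hb g i j⟩
  have hA : ∀ g, (A g).map (algebraMap V ℂ) = LinearMap.toMatrix b b (ρ g) := by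
    intro g
    ext i j
    rw [LinearMap.toMatrix_apply]
    rfl
  have hinj : Function.Injective (fun M : Matrix T T V => M.map (algebraMap V ℂ)) :=
    Matrix.map_injective Subtype.val_injective
  have hA1 : A 1 = 1 := by
    apply hinj
    show (A 1).map (algebraMap V ℂ) = (1 : Matrix T T V).map (algebraMap V ℂ)
    rw [hA, map_one, Matrix.map_one _ (map_zero _) (map_one _)]
    exact LinearMap.toMatrix_id b
  have hAm : ∀ g h, A (g * h) = A g * A h := by
    intro g h
    apply hinj
    show (A (g * h)).map (algebraMap V ℂ) = (A g * A h).map (algebraMap V ℂ)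
    rw [Matrix.map_mul, hA, hA, hA, map_mul]
    exact LinearMap.toMatrix_mul b (ρ g) (ρ h)
  let σ₀ : Representation (ResidueField V) G (T → ResidueField V) :=
    { toFun := fun g => Matrix.toLin' ((A g).map (residue V))
      map_one' := by
        rw [hA1, Matrix.map_one _ (map_zero _) (map_one _), Matrix.toLin'_one]
        rfl
      map_mul' := fun g h => by
        rw [hAm, Matrix.map_mul, Matrix.toLin'_mul]
        rfl }
  -- the order of the group is a unit of `V`
  have hunit : residue V (Nat.card G : V) ≠ 0 := by
    rw [map_natCast]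
    intro h0
    exact hcard ((CharP.cast_eq_zero_iff (ResidueField V) p _).1 h0)
  obtain ⟨c, hc⟩ : ∃ c : V, (Nat.card G : V) * c = 1 := by
    have h1 : IsUnit (Nat.card G : V) := by
      by_contra h2
      exact hunit ((residue_eq_zero_iff _).2 ((mem_maximalIdeal _).2 h2))
    obtain ⟨u, hu⟩ := h1
    exact ⟨((u⁻¹ : Vˣ) : V), by rw [← hu, Units.mul_inv]⟩
  -- matrix units
  have hTN : Fintype.card T = N := by
    rw [← finrank_eq_card_basis b, finrank_fin_fun]
  have hN0 : N ≠ 0 := by
    have h1 := finrank_ne_zero' ρ hρ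
    rwa [finrank_fin_fun] at h1
  have hsingle : ∀ i j : T, ∀ a : ℂ, (Matrix.single i j a).trace = if i = j then a else 0 := by
    intro i j a
    split_ifs with h
    · rw [h, Matrix.trace_single_eq_same]
    · rw [Matrix.trace_single_eq_of_ne _ _ _ h]
  have hunits : ∀ i j : T, ∑ g, (c * (Fintype.card T : V) * A g⁻¹ j i) • A g =
      Matrix.single i j (1 : V) := by
    intro i j
    ext k l
    have h1 := congrFun (congrFun (schur ρ hρ b (Matrix.single l j 1)) k) i
    rw [Matrix.smul_apply, Matrix.smul_apply, Matrix.sum_apply, hsingle] at h1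
    have h2 : ∀ g, (LinearMap.toMatrix b b (ρ g) * Matrix.single l j 1 *
        LinearMap.toMatrix b b (ρ g⁻¹) : Matrix T T ℂ) k i =
          ((A g k l : V) : ℂ) * ((A g⁻¹ j i : V) : ℂ) := by
      intro g
      rw [← hA, ← hA, Matrix.mul_apply, Finset.sum_eq_single j]
      · rw [Matrix.mul_single_apply_same, mul_one]
        rfl
      · intro m _ hm
        rw [Matrix.mul_single_apply_of_ne _ _ _ _ _ hm, zero_mul]
      · intro h
        exact absurd (Finset.mem_univ _) h
    rw [Finset.sum_congr rfl fun g _ => h2 g] at h1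
    have hcC : (Nat.card G : ℂ) * (c : ℂ) = 1 := by
      have := congrArg (fun z : V => (z : ℂ)) hc
      push_cast at this
      exact this
    rw [Matrix.sum_apply]
    have h3 : ((∑ g, ((c * (Fintype.card T : V) * A g⁻¹ j i) • A g) k l : V) : ℂ) =
        (c : ℂ) * ((Fintype.card T : ℂ) • ∑ g, ((A g k l : V) : ℂ) * ((A g⁻¹ j i : V) : ℂ)) := by
      rw [AddSubmonoidClass.coe_finsetSum, smul_eq_mul, Finset.mul_sum, Finset.mul_sum]
      refine Finset.sum_congr rfl fun g _ => ?_
      rw [Matrix.smul_apply, smul_eq_mul]
      push_cast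
      ring
    rw [h3, h1, Matrix.one_apply, Matrix.single_apply]
    rw [Nat.card_eq_fintype_card] at hcC
    by_cases h4 : i = k
    · subst h4
      by_cases h5 : j = l
      · subst h5
        simp only [if_true, and_self, smul_eq_mul, mul_one]
        push_cast
        linear_combination hcC
      · have h5' : ¬ l = j := fun h => h5 h.symm
        simp [h5, h5']
    · have h4' : ¬ k = i := fun h => h4 h.symm
      simp [h4, h4']
  have hTne : Nonempty T := by
    rw [← Fintype.card_pos_iff, hTN]
    exact Nat.pos_of_ne_zero hN0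
  have hsurj : ∀ f : Module.End (ResidueField V) (T → ResidueField V),
      ∃ a : MonoidAlgebra (ResidueField V) G, σ₀.asAlgebraHom a = f := by
    intro f
    have hm : ∀ X : Matrix T T (ResidueField V), ∃ a : MonoidAlgebra (ResidueField V) G,
        σ₀.asAlgebraHom a = Matrix.toLin' X := by
      intro X
      induction X using Matrix.induction_on' with
      | h_zero => exact ⟨0, by rw [map_zero, map_zero]⟩
      | h_add X Y hX hY =>
        obtain ⟨a, ha⟩ := hX
        obtain ⟨a', ha'⟩ := hY
        exact ⟨a + a', by rw [map_add, map_add, ha, ha']⟩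
      | h_std_basis i j x =>
        refine ⟨∑ g, MonoidAlgebra.single g
          (x * residue V (c * (Fintype.card T : V) * A g⁻¹ j i)), ?_⟩
        rw [map_sum]
        have h6 : ∀ g, σ₀.asAlgebraHom (MonoidAlgebra.single g
            (x * residue V (c * (Fintype.card T : V) * A g⁻¹ j i))) =
            Matrix.toLin' (x • ((c * (Fintype.card T : V) * A g⁻¹ j i) • A g).map (residue V)) := by
          intro g
          rw [Representation.asAlgebraHom_single]
          show _ • Matrix.toLin' ((A g).map (residue V)) = _
          rw [← map_smul]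
          congr 1
          ext k l
          simp only [Matrix.smul_apply, Matrix.map_apply, smul_eq_mul, map_mul]
          ring
        rw [Finset.sum_congr rfl fun g _ => h6 g, ← map_sum, ← Finset.smul_sum]
        congr 1
        have h7 : ∑ g, ((c * (Fintype.card T : V) * A g⁻¹ j i) • A g).map (residue V) =
            (∑ g, (c * (Fintype.card T : V) * A g⁻¹ j i) • A g).map (residue V) := by
          ext k l
          simp only [Matrix.sum_apply, Matrix.map_apply, map_sum]
        rw [h7, hunits]
        ext k l
        simp only [Matrix.smul_apply, Matrix.map_apply, Matrix.single_apply, smul_eq_mul]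
        split_ifs <;> simp
    obtain ⟨a, ha⟩ := hm (LinearMap.toMatrix' f)
    exact ⟨a, by rw [ha, Matrix.toLin'_toMatrix']⟩
  have hirr : σ₀.IsIrreducible := isIrreducible_of_surjective σ₀ hsurj
  -- transport to `Fin N`
  let e : (T → ResidueField V) ≃ₗ[ResidueField V] (Fin N → ResidueField V) :=
    LinearEquiv.funCongrLeft (ResidueField V) (ResidueField V)
      (Fintype.equivOfCardEq (by rw [hTN, Fintype.card_fin]) : Fin N ≃ T)
  have htr : ∀ g, LinearMap.trace (ResidueField V) _ (Factors.transport e σ₀ g) =
      residue V (A g).trace := by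
    intro g
    rw [Factors.transport_apply, LinearMap.trace_conj']
    show LinearMap.trace _ _ (Matrix.toLin' ((A g).map (residue V))) = _
    rw [LinearMap.trace_eq_matrix_trace _ (Pi.basisFun _ _), ← Matrix.toLin_eq_toLin',
      LinearMap.toMatrix_toLin]
    simp only [Matrix.trace, Matrix.diag_apply, Matrix.map_apply, map_sum]
  let i₀ : IBr V G := ⟨fun g => residue V (A g).trace, N, Factors.transport e σ₀,
    Factors.isIrreducible_of_equiv (Factors.transportEquiv e σ₀) hirr, htr⟩
  refine ⟨i₀, ?_, fun g => ⟨(A g).trace, ?_, rfl⟩⟩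
  · have h1 : ρ.character 1 = (N : ℂ) := by
      rw [Representation.character, map_one, LinearMap.trace_one, finrank_fin_fun]
    rw [h1]
    congr 1
    obtain ⟨f, -⟩ := equiv_of_trace (Factors.transport e σ₀) i₀.rep
      (Factors.isIrreducible_of_equiv (Factors.transportEquiv e σ₀) hirr) i₀.rep_irr
      (fun g => by rw [i₀.trace_rep, htr])
    have h2 := f.finrank_eq
    rwa [finrank_fin_fun, finrank_fin_fun] at h2
  · have h1 : ρ.character g = LinearMap.trace ℂ _ (ρ g) := rfl
    rw [h1, LinearMap.trace_eq_matrix_trace ℂ b, ← hA g]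
    simp only [Matrix.trace, Matrix.diag_apply, Matrix.map_apply]
    rw [AddSubmonoidClass.coe_finsetSum]
    rfl

end Cfsg.Agent.H699.IBrLift
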