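import Mathlib
import Cfsg.Agent.H699.IBrLift

/-!
# Brauer characters are generalized characters (helper699)

* `eq_phi`: the irreducible characters of a group of order prime to `p` are Brauer characters;
* `isCharacter_bc`: Brauer characters of groups of order prime to `p` are characters;
* `isGeneralizedCharacter_bc`: `g ↦ bc p σ (g ^ N)` is a generalized character, `g ^ N` the
  `p`-regular part of `g`.
-/

set_option autoImplicit false

universe u

namespace Cfsg.Agent.H699.IBrLift

open Cfsg IsLocalRing Module Polynomial Cfsg.Agent.H657 Cfsg.Agent.Characters.Core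
open scoped Matrix

attribute [local instance] Above.isAlgClosed

variable {V : ValuationSubring ℂ} {G : Type u} [Group G] {M : Ideal AlgInt} {p : ℕ}

theorem isPRegular_of_card [Finite G] (hcard : ¬ p ∣ Nat.card G) (g : G) : IsPRegular p g :=
  fun h => hcard (h.trans (orderOf_dvd_natCard g))

/-- The irreducible characters of a group of order prime to `p` are Brauer characters. -/
theorem eq_phi [Finite G] (hM : IsPModular p M) (hV : Above M V) (hcard : ¬ p ∣ Nat.card G)
    {χ : G → ℂ} (hχ : IsIrrCharacter G χ) : ∃ i : IBr V G, χ = phi p i := by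
  classical
  have : Fact p.Prime := ⟨hM.1⟩
  have : CharP (ResidueField V) p := hV.charP hM
  obtain ⟨i, hi1, hi⟩ := exists_irr_red (V := V) hcard hχ
  obtain ⟨m, idx, -, hdec⟩ := exists_decomp hM hV hχ
  have hreg : ∀ g : G, IsPRegular p g := isPRegular_of_card hcard
  -- the residues
  have h1 : ∀ g, i.1 g = ∑ l, (idx l).1 g := by
    intro g
    obtain ⟨z, hz, hz'⟩ := hi g
    choose w hw hw' using fun l => phi_spec (p := p) (idx l) (hreg g)
    have h2 : z = ∑ l, w l := by
      apply Subtype.ext
      rw [hz, hdec g (hreg g), AddSubmonoidClass.coe_finsetSum]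
      exact Finset.sum_congr rfl fun l _ => hw l
    rw [← hz', h2, map_sum]
    exact Finset.sum_congr rfl fun l _ => hw' l
  obtain ⟨l, hl⟩ : ∃ l, idx l = i := by
    by_contra hcon
    push Not at hcon
    have h2 := (linearIndependent_ibr (V := V) (G := G)).notMem_span_image
      (s := {i}ᶜ) (x := i) (fun h => h rfl)
    apply h2
    have h3 : (i.1 : G → ResidueField V) = ∑ l, ((idx l).1 : G → ResidueField V) := by
      funext g
      rw [Finset.sum_apply]
      exact h1 g
    rw [h3]
    exact Submodule.sum_mem _ fun l _ => Submodule.subset_span ⟨idx l, hcon l, rfl⟩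
  -- the degrees
  have h2 : (i.deg : ℂ) = ∑ l, ((idx l).deg : ℂ) := by
    rw [← hi1, hdec 1 (hreg 1)]
    exact Finset.sum_congr rfl fun l _ => phi_one _
  have h3 : i.deg = ∑ l, (idx l).deg := by exact_mod_cast h2
  have h4 : ∀ l', l' = l := by
    intro l'
    by_contra hne
    have h5 : (idx l).deg + (idx l').deg ≤ ∑ l, (idx l).deg := by
      rw [← Finset.sum_pair (f := fun l => (idx l).deg) (Ne.symm hne)]
      exact Finset.sum_le_sum_of_subset (Finset.subset_univ _)
    rw [← h3, hl] at h5
    have := deg_pos (idx l')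
    omega
  refine ⟨i, ?_⟩
  funext g
  rw [hdec g (hreg g), Finset.sum_eq_single l (fun l' _ h => absurd (h4 l') h)
    (fun h => absurd (Finset.mem_univ _) h), hl]

/-- The irreducible Brauer characters of a group of order prime to `p` are irreducible
characters. -/
theorem isIrrCharacter_phi [Finite G] (hM : IsPModular p M) (hV : Above M V)
    (hcard : ¬ p ∣ Nat.card G) (i : IBr V G) : IsIrrCharacter G (phi p i) := by
  classical
  have : Fact p.Prime := ⟨hM.1⟩
  have : CharP (ResidueField V) p := hV.charP hM
  by_contra hcon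
  have h1 := (linearIndependent_phi (V := V) (G := G) (p := p)).notMem_span_image
      (s := {i}ᶜ) (x := i) (fun h => h rfl)
  apply h1
  have := Characters.Core.finite_irr (G := G)
  have : Fintype (IrrCharacter G) := Fintype.ofFinite _
  have := Fintype.ofFinite G
  rw [Characters.Core.classFunction_eq_sum (phi_isClassFunction p i)]
  refine Submodule.sum_mem _ fun ψ _ => Submodule.smul_mem _ _ ?_
  obtain ⟨j, hj⟩ := eq_phi hM hV hcard ψ.2
  refine Submodule.subset_span ⟨j, ?_, hj.symm⟩
  rintro rfl
  exact hcon (hj ▸ ψ.2)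

/-- Brauer characters are additive. -/
theorem exists_sum_bc [Fact p.Prime] [CharP (ResidueField V) p] {W : Type*}
    [AddCommGroup W] [Module (ResidueField V) W] [FiniteDimensional (ResidueField V) W]
    (σ : Representation (ResidueField V) G W) :
    ∃ (m : ℕ) (idx : Fin m → IBr V G), ∀ g, IsPRegular p g →
      bc p σ g = ∑ l, phi p (idx l) g := by
  classical
  obtain ⟨m, n, σ', hσ', hdet⟩ := Factors.exists_factors σ
  let idx : Fin m → IBr V G := fun l => ⟨fun g => LinearMap.trace (ResidueField V) _ (σ' l g),
    n l, σ' l, hσ' l, fun g => rfl⟩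
  refine ⟨m, idx, fun g hg => ?_⟩
  have h1 : ∀ l, phi p (idx l) g = bc p (σ' l) g := fun l =>
    phi_eq_bc (idx l) (σ' l) (hσ' l) (fun g => rfl) hg
  rw [Finset.sum_congr rfl fun l _ => h1 l]
  have hpoly : LinearMap.charpoly (σ g) = ∏ l, LinearMap.charpoly (σ' l g) := by
    have : Infinite (ResidueField V) := IsAlgClosed.instInfinite
    refine Polynomial.funext fun t => ?_
    have h2 := hdet (MonoidAlgebra.single 1 t - MonoidAlgebra.single g 1)
    rw [map_sub, Representation.asAlgebraHom_single, Representation.asAlgebraHom_single, map_one,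
      one_smul, ← Algebra.algebraMap_eq_smul_one, ← LinearMap.eval_charpoly] at h2
    rw [h2, eval_prod]
    refine Finset.prod_congr rfl fun l _ => ?_
    rw [map_sub, Representation.asAlgebraHom_single, Representation.asAlgebraHom_single, map_one,
      one_smul, ← Algebra.algebraMap_eq_smul_one, ← LinearMap.eval_charpoly]
  unfold bc
  rw [hpoly, roots_prod _ _ (Finset.prod_ne_zero_iff.2 fun i _ =>
      (LinearMap.charpoly_monic _).ne_zero), Multiset.map_bind, Multiset.sum_bind]
  rfl

/-- Brauer characters of groups of order prime to `p` are characters. -/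
theorem isCharacter_bc [Finite G] (hM : IsPModular p M) (hV : Above M V)
    (hcard : ¬ p ∣ Nat.card G) {W : Type*}
    [AddCommGroup W] [Module (ResidueField V) W] [FiniteDimensional (ResidueField V) W]
    (σ : Representation (ResidueField V) G W) : IsCharacter G (bc p σ) := by
  have : Fact p.Prime := ⟨hM.1⟩
  have : CharP (ResidueField V) p := hV.charP hM
  obtain ⟨m, idx, h⟩ := exists_sum_bc (p := p) σ
  have h1 : bc p σ = ∑ l, phi p (idx l) := by
    funext g
    rw [Finset.sum_apply]
    exact h g (isPRegular_of_card hcard g)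
  rw [h1]
  exact isCharacter_sum _ fun l _ => isIrr_isCharacter (isIrrCharacter_phi hM hV hcard _)

/-! ### Elementary groups -/

theorem isNilpotent_of_isElementary {E : Type*} [Group E] [Finite E] {r : ℕ} (hr : r.Prime)
    (h : IsElementary r E) : Group.IsNilpotent E := by
  obtain ⟨x, hx, -, k, hk⟩ := h
  have hle : Subgroup.zpowers x ≤ Subgroup.center E := by
    rw [Subgroup.zpowers_le]
    exact hx
  have hn : (Subgroup.zpowers x).Normal := ⟨fun a ha g => by
    have := Subgroup.mem_center_iff.1 (hle ha) g
    rw [this, mul_inv_cancel_right]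
    exact ha⟩
  have : Fact r.Prime := ⟨hr⟩
  have hP : IsPGroup r (E ⧸ Subgroup.zpowers x) := by
    apply IsPGroup.of_card (n := k)
    exact hk
  have := hP.isNilpotent
  exact Subgroup.isNilpotent_of_ker_le_center (QuotientGroup.mk' (Subgroup.zpowers x))
    (by rw [QuotientGroup.ker_mk']; exact hle)

/-- The `p'`-part is a homomorphism on a nilpotent group. -/
theorem mul_pow_of_nilpotent {E : Type*} [Group E] [Finite E] [Group.IsNilpotent E]
    (hp : p.Prime) {k m N : ℕ} (hcard : Nat.card E ∣ p ^ k * m) (hmp : Nat.Coprime m p)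
    (h1 : N ≡ 1 [MOD m]) (h0 : N ≡ 0 [MOD p ^ k]) (g h : E) :
    (g * h) ^ N = g ^ N * h ^ N := by
  obtain ⟨e⟩ := (Group.isNilpotent_of_finite_tfae (G := E)).out 0 4 rfl rfl |>.1 inferInstance
  obtain ⟨a, rfl⟩ := e.surjective g
  obtain ⟨b, rfl⟩ := e.surjective h
  rw [← map_mul, ← map_pow, ← map_pow, ← map_pow, ← map_mul]
  congr 1
  funext q P
  have hq : (q : ℕ).Prime := Nat.prime_of_mem_primeFactors q.2
  have : Fact (q : ℕ).Prime := ⟨hq⟩
  simp only [Pi.pow_apply, Pi.mul_apply]
  by_cases hqp : (q : ℕ) = p
  · have h2 : ∀ x : (P : Subgroup E), x ^ N = 1 := by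
      intro x
      rw [← orderOf_dvd_iff_pow_eq_one]
      obtain ⟨j, hj⟩ := P.isPGroup'.exists_card_eq
      have h3 : Nat.card (P : Subgroup E) ∣ p ^ k * m :=
        (Subgroup.card_subgroup_dvd_card _).trans hcard
      have h4 : Nat.card (P : Subgroup E) ∣ p ^ k := by
        rw [hj, hqp] at h3 ⊢
        exact (Nat.Coprime.pow_left j hmp.symm).dvd_of_dvd_mul_right h3
      exact (orderOf_dvd_natCard x).trans (h4.trans ((Nat.modEq_zero_iff_dvd).1 h0))
    rw [h2, h2, h2, one_mul]
  · have h2 : ∀ x : (P : Subgroup E), x ^ N = x := by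
      intro x
      obtain ⟨j, hj⟩ := P.isPGroup'.exists_card_eq
      have h3 : Nat.card (P : Subgroup E) ∣ p ^ k * m :=
        (Subgroup.card_subgroup_dvd_card _).trans hcard
      have h4 : Nat.card (P : Subgroup E) ∣ m := by
        rw [hj] at h3 ⊢
        exact (Nat.Coprime.pow j k ((Nat.coprime_primes hq hp).2 hqp)).dvd_of_dvd_mul_left h3
      have h5 : N ≡ 1 [MOD orderOf x] := h1.of_dvd ((orderOf_dvd_natCard x).trans h4)
      have h6 := (pow_eq_pow_iff_modEq (x := x)).2 h5
      rwa [pow_one] at h6
    rw [h2, h2, h2]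

/-- **Brauer characters are generalized characters.** -/
theorem isGeneralizedCharacter_bc [Finite G] (hM : IsPModular p M) (hV : Above M V)
    {k m N : ℕ} (hcard : Nat.card G = p ^ k * m) (hmp : Nat.Coprime m p)
    (h1 : N ≡ 1 [MOD m]) (h0 : N ≡ 0 [MOD p ^ k]) {W : Type*}
    [AddCommGroup W] [Module (ResidueField V) W] [FiniteDimensional (ResidueField V) W]
    (σ : Representation (ResidueField V) G W) :
    IsGeneralizedCharacter G (fun g => bc p σ (g ^ N)) := by
  refine Characters.Brauer.brauer_characterization _ ?_ ?_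
  · intro g h
    show bc p σ ((h * g * h⁻¹) ^ N) = bc p σ (g ^ N)
    rw [conj_pow, bc_conj]
  · intro E r hr hE
    have := isNilpotent_of_isElementary hr hE
    have hEc : Nat.card E ∣ p ^ k * m := by
      rw [← hcard]
      exact Subgroup.card_subgroup_dvd_card E
    let π : E →* E :=
      { toFun := fun g => g ^ N
        map_one' := one_pow N
        map_mul' := mul_pow_of_nilpotent hM.1 hEc hmp h1 h0 }
    have hrc : ¬ p ∣ Nat.card π.range := by
      intro hdvd
      have : Fact p.Prime := ⟨hM.1⟩
      obtain ⟨y, hy⟩ := exists_prime_orderOf_dvd_card' p hdvd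
      obtain ⟨g, hg⟩ := y.2
      have h2 : (y : E) ^ m = 1 := by
        rw [← hg]
        show (g ^ N) ^ m = 1
        obtain ⟨c, hc⟩ := (Nat.modEq_zero_iff_dvd).1 h0
        rw [← pow_mul, hc]
        have h3 : p ^ k * c * m = (p ^ k * m) * c := by ring
        rw [h3, pow_mul]
        have h4 : g ^ (p ^ k * m) = 1 := by
          rw [← orderOf_dvd_iff_pow_eq_one]
          exact (orderOf_dvd_natCard g).trans hEc
        rw [h4, one_pow]
      have h3 : p ∣ m := by
        rw [← hy, ← Subgroup.orderOf_coe]
        exact orderOf_dvd_of_pow_eq_one h2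
      exact ((Nat.Prime.coprime_iff_not_dvd hM.1).1 hmp.symm) h3
    have h2 := isCharacter_bc hM hV hrc
      ((σ.comp E.subtype).comp π.range.subtype)
    have h3 := isCharacter_comp π.rangeRestrict h2
    exact Characters.Brauer.isGeneralizedCharacter_of_isCharacter h3

end Cfsg.Agent.H699.IBrLift
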