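import Mathlib
import Cfsg.Prelude.Def_Local
import Cfsg.Agent.Lib.Cores
import Cfsg.Agent.Lib.PSolvable
import Cfsg.Agent.S0002
import Cfsg.Agent.S0023
import Cfsg.Agent.S0027

/-!
# Commuting Sylow subgroups for two primes: group theory (helper699)

* `le_pPrimeCore`: in a `p`-solvable group a `q`-subgroup centralizing a Sylow `p`-subgroup lies in
  `O_{p'}`;
* `exists_commuting_of_coprime`, `commute_of_centralizes`: lifting commuting Sylow subgroups modulo
  a normal subgroup;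
* `frattini_compl`: the Frattini argument for complements of an abelian normal subgroup.
-/

set_option autoImplicit false

namespace Cfsg.Agent.H699.CommSylow

open Cfsg
open scoped commutatorElement

variable {G : Type*} [Group G] [Finite G] {p q : ℕ} [Fact p.Prime] [Fact q.Prime]

omit [Finite G] in
theorem eq_one_of_pow {x : G} (hpq : p ≠ q) {a b : ℕ} (ha : x ^ p ^ a = 1) (hb : x ^ q ^ b = 1) :
    x = 1 := by
  have h1 := orderOf_dvd_of_pow_eq_one ha
  have h2 := orderOf_dvd_of_pow_eq_one hb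
  have h3 : (p ^ a).Coprime (q ^ b) := Nat.Coprime.pow a b
    ((Nat.coprime_primes (Fact.out : p.Prime) (Fact.out : q.Prime)).2 hpq)
  exact orderOf_eq_one_iff.1 (Nat.eq_one_of_dvd_coprimes h3 h1 h2)

omit [Finite G] in
theorem disjoint_of_ne (hpq : p ≠ q) {A B : Subgroup G} (hA : IsPGroup p A) (hB : IsPGroup q B) :
    A ⊓ B = ⊥ := by
  rw [eq_bot_iff]
  rintro x ⟨hxA, hxB⟩
  obtain ⟨a, ha⟩ := hA ⟨x, hxA⟩
  obtain ⟨b, hb⟩ := hB ⟨x, hxB⟩
  exact Subgroup.mem_bot.2 (eq_one_of_pow hpq (congrArg Subtype.val ha) (congrArg Subtype.val hb))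

theorem mem_normalizer_of_conj {H : Subgroup G} {g : G} (h : ∀ x ∈ H, g * x * g⁻¹ ∈ H) :
    g ∈ Subgroup.normalizer (H : Set G) :=
  Subgroup.mem_normalizer_fintype (S := (H : Set G)) h

/-- In a `p`-solvable group a `q`-subgroup centralizing a Sylow `p`-subgroup lies in `O_{p'}`. -/
theorem le_pPrimeCore (hpq : p ≠ q) (hsep : IsPSolvable p G) (P : Sylow p G) (Q : Subgroup G)
    (hQ : IsPGroup q Q) (h : Q ≤ Subgroup.centralizer ((P : Subgroup G) : Set G)) :
    Q ≤ pPrimeCore p G := by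
  set A := pPrimeCore p G with hA
  have hAn : A.Normal := Lib.Cores.pPrimeCore_normal p
  let f : G →* G ⧸ A := QuotientGroup.mk' A
  have hf : Function.Surjective f := QuotientGroup.mk'_surjective A
  have hker : f.ker = A := QuotientGroup.ker_mk' A
  have h1 := Lib.PSolvable.centralizer_pCore_le_of_pSolvable p
    (Lib.PSolvable.IsPSolvable_of_surjective p hsep f hf)
    (Lib.Cores.pPrimeCore_quotient_pPrimeCore (G := G) p)
  have h2 : Q.map f ≤ Subgroup.centralizer ((pCore p (G ⧸ A) : Subgroup (G ⧸ A)) : Set (G ⧸ A)) := by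
    have h3 : pCore p (G ⧸ A) ≤ ((P.mapSurjective hf : Sylow p (G ⧸ A)) : Subgroup (G ⧸ A)) :=
      Lib.Cores.pCore_le_sylow _
    rintro _ ⟨y, hy, rfl⟩
    rw [Subgroup.mem_centralizer_iff]
    intro z hz
    obtain ⟨x, hx, rfl⟩ := h3 hz
    rw [← map_mul, ← map_mul]
    congr 1
    exact Subgroup.mem_centralizer_iff.1 (h hy) x hx
  have h4 : Q.map f = ⊥ := by
    have h5 : Q.map f ≤ pCore p (G ⧸ A) := h2.trans h1
    have h6 := disjoint_of_ne hpq (Lib.Cores.pCore_isPGroup (G := G ⧸ A) p) (hQ.map f)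
    rwa [inf_eq_right.2 h5] at h6
  rw [Subgroup.map_eq_bot_iff, hker] at h4
  exact h4

/-- Lifting commuting Sylow subgroups modulo a normal `{p, q}'`-subgroup. -/
theorem exists_commuting_of_coprime (hpq : p ≠ q) (N : Subgroup G) [hN : N.Normal]
    (hpN : ¬ p ∣ Nat.card N) (hqN : ¬ q ∣ Nat.card N) (P : Sylow p G) (Q : Sylow q G)
    (h : ∀ x ∈ (P : Subgroup G), ∀ y ∈ (Q : Subgroup G), x * y * x⁻¹ * y⁻¹ ∈ N) :
    ∃ Q1 : Sylow q G, ∀ x ∈ (P : Subgroup G), ∀ y ∈ (Q1 : Subgroup G), x * y = y * x := by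
  have hpP : p.Prime := Fact.out
  have hqP : q.Prime := Fact.out
  set K : Subgroup G := N ⊔ Q with hK
  have hPK : (P : Subgroup G) ≤ Subgroup.normalizer (K : Set G) := by
    intro x hx
    refine mem_normalizer_of_conj fun z hz => ?_
    obtain ⟨n, hn, y, hy, rfl⟩ := Subgroup.mem_sup_of_normal_left.1 hz
    have h1 : x * (n * y) * x⁻¹ = (x * n * x⁻¹) * (x * y * x⁻¹ * y⁻¹) * y := by group
    rw [h1]
    exact K.mul_mem (K.mul_mem (le_sup_left (a := N) (hN.conj_mem n hn x))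
      (le_sup_left (a := N) (h x hx y hy))) (le_sup_right (a := N) hy)
  have hcop : (Nat.card (P : Subgroup G)).Coprime (Nat.card K) := by
    obtain ⟨a, ha⟩ := IsPGroup.iff_card.1 P.isPGroup'
    obtain ⟨b, hb⟩ := IsPGroup.iff_card.1 Q.isPGroup'
    rw [ha]
    refine Nat.Coprime.pow_left a ((hpP.coprime_iff_not_dvd).2 fun hd => ?_)
    have h2 := hd.trans (Lib.Cores.card_sup_dvd N Q hN)
    rcases hpP.dvd_mul.1 h2 with h3 | h3
    · exact hpN h3
    · rw [hb] at h3
      exact hpq ((Nat.prime_dvd_prime_iff_eq hpP hqP).1 (hpP.dvd_of_dvd_pow h3))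
  have hsolv : Group.IsSolvable (P : Subgroup G) := by
    have : Group.IsNilpotent (P : Subgroup G) := P.isPGroup'.isNilpotent
    infer_instance
  obtain ⟨R, hR⟩ := S0023.result (P : Subgroup G) K hPK hcop (Or.inl hsolv) q
  set R' : Subgroup G := (R : Subgroup K).map K.subtype with hR'
  have hR'K : R' ≤ K := Subgroup.map_subtype_le _
  have hR'q : IsPGroup q R' := R.2.map _
  have hidx : ¬ q ∣ R'.index := by
    have h1 : R'.relIndex K = (R : Subgroup K).index := by
      rw [Subgroup.relIndex, hR', Subgroup.subgroupOf, Subgroup.comap_map_eq_self_of_injective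
        (Subgroup.subtype_injective _)]
    rw [← Subgroup.relIndex_mul_index hR'K, h1]
    intro hd
    rcases hqP.dvd_mul.1 hd with h2 | h2
    · exact R.not_dvd_index h2
    · exact Q.not_dvd_index (h2.trans (Subgroup.index_dvd_of_le le_sup_right))
  refine ⟨hR'q.toSylow hidx, fun x hx y hy => ?_⟩
  have hy' : y ∈ R' := hy
  have h1 : x * y * x⁻¹ * y⁻¹ ∈ R' :=
    R'.mul_mem ((Subgroup.mem_normalizer_iff.1 (hR hx) y).1 hy') (R'.inv_mem hy')
  have h2 : x * y * x⁻¹ * y⁻¹ ∈ N := by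
    obtain ⟨n, hn, b, hb, rfl⟩ := Subgroup.mem_sup_of_normal_left.1 (hR'K hy')
    have h3 : x * (n * b) * x⁻¹ * (n * b)⁻¹ = (x * n * x⁻¹) * (x * b * x⁻¹ * b⁻¹) * n⁻¹ := by group
    rw [h3]
    exact N.mul_mem (N.mul_mem (hN.conj_mem n hn x) (h x hx b hb)) (N.inv_mem hn)
  have h3 : x * y * x⁻¹ * y⁻¹ = 1 := by
    obtain ⟨a, ha⟩ := hR'q ⟨_, h1⟩
    have h4 := orderOf_dvd_of_pow_eq_one (congrArg Subtype.val ha : (x * y * x⁻¹ * y⁻¹) ^ q ^ a = 1)
    have h5 := Subgroup.orderOf_dvd_natCard N h2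
    exact orderOf_eq_one_iff.1 (Nat.eq_one_of_dvd_coprimes
      (Nat.Coprime.pow_left a ((hqP.coprime_iff_not_dvd).2 hqN)) h4 h5)
  rw [mul_inv_eq_one, mul_inv_eq_iff_eq_mul] at h3
  exact h3

/-- Lifting commuting Sylow subgroups modulo a normal `p`-subgroup centralized by the Sylow
`q`-subgroup. -/
theorem commute_of_centralizes (hpq : p ≠ q) (N : Subgroup G) [hN : N.Normal] (hNp : IsPGroup p N)
    (P : Sylow p G) (Q : Subgroup G) (hQ : IsPGroup q Q)
    (h : ∀ x ∈ (P : Subgroup G), ∀ y ∈ Q, x * y * x⁻¹ * y⁻¹ ∈ N)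
    (hc : Q ≤ Subgroup.centralizer (N : Set G)) :
    ∀ x ∈ (P : Subgroup G), ∀ y ∈ Q, x * y = y * x := by
  have hpP : p.Prime := Fact.out
  have hqP : q.Prime := Fact.out
  have hNP : N ≤ P := (Lib.Cores.le_pCore hN hNp).trans (Lib.Cores.pCore_le_sylow P)
  have hQP : Q ≤ Subgroup.normalizer ((P : Subgroup G) : Set G) := by
    intro y hy
    refine mem_normalizer_of_conj fun x hx => ?_
    have h1 : y * x * y⁻¹ = (x * y * x⁻¹ * y⁻¹)⁻¹ * x := by group
    rw [h1]
    exact (P : Subgroup G).mul_mem ((P : Subgroup G).inv_mem (hNP (h x hx y hy))) hx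
  have hcop : (Nat.card Q).Coprime (Nat.card (P : Subgroup G)) := by
    obtain ⟨a, ha⟩ := IsPGroup.iff_card.1 P.isPGroup'
    obtain ⟨b, hb⟩ := IsPGroup.iff_card.1 hQ
    rw [ha, hb]
    exact Nat.Coprime.pow b a ((Nat.coprime_primes hqP hpP).2 hpq.symm)
  have hsolv : Group.IsSolvable Q := by
    have : Group.IsNilpotent Q := hQ.isNilpotent
    infer_instance
  have h1 := S0027.result Q (P : Subgroup G) hQP hcop (Or.inl hsolv)
  have h2 : ⁅(P : Subgroup G), Q⁆ ≤ N := by
    rw [Subgroup.commutator_le]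
    intro x hx y hy
    exact h x hx y hy
  have h3 : ⁅(P : Subgroup G), Q⁆ = ⊥ := by
    rw [← h1, eq_bot_iff]
    refine (Subgroup.commutator_mono h2 le_rfl).trans ?_
    rw [Subgroup.commutator_le]
    intro n hn y hy
    rw [Subgroup.mem_bot]
    have := Subgroup.mem_centralizer_iff.1 (hc hy) n hn
    rw [commutatorElement_def, this]
    group
  intro x hx y hy
  have h4 : ⁅x, y⁆ ∈ (⊥ : Subgroup G) := h3 ▸ Subgroup.commutator_mem_commutator hx hy
  rw [Subgroup.mem_bot, commutatorElement_def, mul_inv_eq_one, mul_inv_eq_iff_eq_mul] at h4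
  exact h4

/-- The Frattini argument for complements of an abelian normal subgroup. -/
theorem frattini_compl (N K : Subgroup G) [hN : N.Normal] [hK : K.Normal]
    (hab : ∀ a ∈ N, ∀ b ∈ N, a * b = b * a) (H : Subgroup K)
    (hH : Subgroup.IsComplement' (N.subgroupOf K) H)
    (hcop : (Nat.card (N.subgroupOf K)).Coprime (Nat.card H)) :
    N ⊔ Subgroup.normalizer ((H.map K.subtype : Subgroup G) : Set G) = ⊤ := by
  have hA : (N.subgroupOf K).Normal := inferInstance
  have hAc : IsMulCommutative (N.subgroupOf K) :=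
    ⟨⟨fun a b => Subtype.ext (Subtype.ext (hab _ a.2 _ b.2))⟩⟩
  rw [eq_top_iff]
  intro g _
  let φ : K ≃* K := MulAut.conjNormal g
  have hφ : ∀ k : K, ((φ k : K) : G) = g * k * g⁻¹ := fun k => MulAut.conjNormal_apply g k
  have hcard : Nat.card (H.map φ.toMonoidHom) = Nat.card H :=
    Subgroup.card_map_of_injective φ.injective
  have hH' : Subgroup.IsComplement' (N.subgroupOf K) (H.map φ.toMonoidHom) := by
    apply Subgroup.isComplement'_of_coprime
    · rw [hcard]; exact hH.card_mul_card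
    · rwa [hcard]
  obtain ⟨a, ha, haH⟩ := S0002.result (N.subgroupOf K) (by rwa [hH.symm.index_eq_card]) _ _ hH' hH
  have h1 : (a : G) * g ∈ Subgroup.normalizer ((H.map K.subtype : Subgroup G) : Set G) := by
    refine mem_normalizer_of_conj ?_
    rintro _ ⟨k, hk, rfl⟩
    refine ⟨a * φ k * a⁻¹, ?_, ?_⟩
    · rw [← haH]
      exact ⟨φ k, ⟨k, hk, rfl⟩, rfl⟩
    · show ((a * φ k * a⁻¹ : K) : G) = a * g * (k : G) * (a * g)⁻¹
      push_cast
      rw [hφ]; group
  have h2 : g = (a : G)⁻¹ * ((a : G) * g) := by group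
  rw [h2]
  exact Subgroup.mul_mem _ (le_sup_left (a := N) (N.inv_mem ha)) (le_sup_right (a := N) h1)

end Cfsg.Agent.H699.CommSylow
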