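import Mathlib
import Cfsg.Prelude.Def_Blocks
import Cfsg.Prelude.Def_Local
import Cfsg.Agent.H699.CoprimeIto
import Cfsg.Agent.H699.CommSylow
import Cfsg.Agent.H699.OverLin
import Cfsg.Agent.S0023
import Cfsg.Agent.S0024
import Cfsg.Agent.S0026
import Cfsg.Agent.S0887
import Cfsg.Agent.Lib.Cores
import Cfsg.Agent.Lib.PSolvable

/-!
# Commuting Sylow subgroups from character degrees (helper699)
-/

set_option autoImplicit false

universe u

namespace Cfsg.Agent.H699.CommMain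

open Cfsg Cfsg.Agent.Characters.Core Cfsg.Agent.Blocks Cfsg.Agent.H699.CoprimeIto
open Cfsg.Agent.H699.CommSylow
open scoped commutatorElement

section

variable {G : Type u} [Group G] [Finite G] {p q : ℕ} [Fact p.Prime] [Fact q.Prime]

/-- A unique minimal normal `p`-subgroup is abelian. -/
theorem abelian_of_unique (N : Subgroup G) [hN : N.Normal] (hNp : IsPGroup p N) (hNbot : N ≠ ⊥)
    (huniq : ∀ N2 : Subgroup G, N2.Normal → N2 ≠ ⊥ → N ≤ N2) :
    ∀ a ∈ N, ∀ b ∈ N, a * b = b * a := by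
  have h1 : ⁅N, N⁆ = ⊥ := by
    by_contra hne
    have h2 := huniq ⁅N, N⁆ inferInstance hne
    have hnil : Group.IsNilpotent N := hNp.isNilpotent
    have hsolv : Group.IsSolvable N := inferInstance
    have hnt : Nontrivial N := (Subgroup.nontrivial_iff_ne_bot N).2 hNbot
    have h3 : commutator N < ⊤ := Group.IsSolvable.commutator_lt_top_of_nontrivial N
    apply h3.ne
    apply Subgroup.map_injective N.subtype_injective
    rw [← MonoidHom.range_eq_map, Subgroup.range_subtype, commutator_def, Subgroup.map_commutator,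
      ← MonoidHom.range_eq_map, Subgroup.range_subtype]
    exact le_antisymm (Subgroup.commutator_le_self N) h2
  intro a ha b hb
  have h4 : ⁅a, b⁆ ∈ (⊥ : Subgroup G) := h1 ▸ Subgroup.commutator_mem_commutator ha hb
  rw [Subgroup.mem_bot, commutatorElement_def, mul_inv_eq_one, mul_inv_eq_iff_eq_mul] at h4
  exact h4

/-- In a nilpotent group a normal subgroup generated by a normal subgroup and its commutator
subgroup with the whole group. -/
theorem le_of_le_commutator_sup {X : Type*} [Group X] [Group.IsNilpotent X] (N C : Subgroup X)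
    [N.Normal] [C.Normal] (h : N ≤ ⁅N, (⊤ : Subgroup X)⁆ ⊔ C) : N ≤ C := by
  have h1 : ∀ n : ℕ, N ≤ Subgroup.lowerCentralSeries (⊤ : Subgroup X) n ⊔ C := by
    intro n
    induction n with
    | zero => rw [Subgroup.lowerCentralSeries_zero]; exact le_top.trans le_sup_left
    | succ n ih =>
      refine h.trans (sup_le ?_ le_sup_right)
      refine (Subgroup.commutator_mono ih le_rfl).trans ?_
      rw [Subgroup.commutator_le]
      intro x hx y _
      obtain ⟨a, ha, c, hc, rfl⟩ := Subgroup.mem_sup_of_normal_right.1 hx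
      have h2 : ⁅a * c, y⁆ = a * (c * y * c⁻¹ * y⁻¹) * a⁻¹ * ⁅a, y⁆ := by
        rw [commutatorElement_def, commutatorElement_def]; group
      rw [h2]
      refine Subgroup.mul_mem _ ?_ ?_
      · have hCn : C.Normal := inferInstance
        refine le_sup_right (a := Subgroup.lowerCentralSeries (⊤ : Subgroup X) (n + 1)) (hCn.conj_mem _ ?_ a)
        have : c * y * c⁻¹ * y⁻¹ = c * (y * c⁻¹ * y⁻¹) := by group
        rw [this]
        exact C.mul_mem hc (hCn.conj_mem _ (C.inv_mem hc) y)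
      · exact le_sup_left (b := C) (Subgroup.commutator_mem_commutator ha (Subgroup.mem_top y))
  obtain ⟨n, hn⟩ := Subgroup.nilpotent_iff_lowerCentralSeries.1 (inferInstance : Group.IsNilpotent X)
  have := h1 n
  rwa [hn, bot_sup_eq] at this

/-- A proper `P`-invariant subgroup of an abelian normal `p`-subgroup lies in the kernel of a
nontrivial `P`-invariant linear character. -/
theorem exists_lam (P : Subgroup G) (hP : IsPGroup p P) (N C : Subgroup G) [hN : N.Normal]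
    (hNP : N ≤ P) (hab : ∀ a ∈ N, ∀ b ∈ N, a * b = b * a) (hCN : C ≤ N)
    (hCP : ∀ x ∈ P, ∀ c ∈ C, x * c * x⁻¹ ∈ C) (hne : C ≠ N) :
    ∃ lam : N →* ℂˣ, (∀ x ∈ P, ∀ n : N, lam ⟨x * n * x⁻¹, hN.conj_mem (n : G) n.2 x⟩ = lam n) ∧
      (∀ c (hc : c ∈ C), lam ⟨c, hCN hc⟩ = 1) ∧ ∃ n : N, lam n ≠ 1 := by
  classical
  set U : Subgroup G := ⁅N, P⁆ ⊔ C with hU
  have hUN : U ≤ N := sup_le (Subgroup.commutator_le_left N P) hCN
  have hUne : ¬ N ≤ U := by
    intro hle
    have hnil : Group.IsNilpotent P := hP.isNilpotent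
    have hCn : (C.subgroupOf P).Normal := ⟨fun c hc x => hCP x x.2 c hc⟩
    have h1 : N.subgroupOf P ≤ C.subgroupOf P := by
      apply le_of_le_commutator_sup
      rw [← Subgroup.map_le_map_iff_of_injective P.subtype_injective, Subgroup.map_sup,
        Subgroup.map_commutator, ← MonoidHom.range_eq_map, Subgroup.range_subtype,
        Subgroup.subgroupOf_map_subtype, Subgroup.subgroupOf_map_subtype, inf_eq_left.2 hNP,
        inf_eq_left.2 (hCN.trans hNP)]
      exact hle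
    apply hne
    refine le_antisymm hCN fun n hn => ?_
    exact h1 (x := ⟨n, hNP hn⟩) hn
  obtain ⟨n, hn, hnU⟩ := SetLike.not_le_iff_exists.1 hUne
  let _ : CommGroup N := { (inferInstance : Group N) with
    mul_comm := fun a b => Subtype.ext (hab a a.2 b b.2) }
  let U' : Subgroup N := U.subgroupOf N
  have hn' : (QuotientGroup.mk' U' ⟨n, hn⟩) ≠ 1 := by
    intro h
    rw [← MonoidHom.mem_ker, QuotientGroup.ker_mk'] at h
    exact hnU h
  obtain ⟨φ, hφ⟩ := CommGroup.exists_apply_ne_one_of_hasEnoughRootsOfUnity (N ⧸ U') ℂ hn'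
  have htriv : ∀ (u : G) (hu : u ∈ U), φ (QuotientGroup.mk' U' ⟨u, hUN hu⟩) = 1 := by
    intro u hu
    have : QuotientGroup.mk' U' ⟨u, hUN hu⟩ = 1 := by
      rw [← MonoidHom.mem_ker, QuotientGroup.ker_mk']
      exact hu
    rw [this, map_one]
  refine ⟨φ.comp (QuotientGroup.mk' U'), fun x hx m => ?_, fun c hc => ?_, ⟨n, hn⟩, hφ⟩
  · have h1 : x * m * x⁻¹ * (m : G)⁻¹ ∈ U := by
      refine le_sup_left (b := C) ?_
      rw [Subgroup.commutator_comm]
      have := Subgroup.commutator_mem_commutator hx m.2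
      rwa [commutatorElement_def] at this
    have h2 : (⟨x * m * x⁻¹, hN.conj_mem (m : G) m.2 x⟩ : N) =
        ⟨x * m * x⁻¹ * (m : G)⁻¹, hUN h1⟩ * m := by
      apply Subtype.ext
      show x * m * x⁻¹ = x * m * x⁻¹ * (m : G)⁻¹ * m
      group
    rw [h2, map_mul]
    show φ _ * _ = _
    rw [htriv _ h1, one_mul]
  · exact htriv c (le_sup_right (a := ⁅N, P⁆) hc)

/-- The inertia group of a linear character of a normal subgroup. -/
def inertia (N : Subgroup G) [hN : N.Normal] (lam : N →* ℂˣ) : Subgroup G where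
  carrier := {g | ∀ n : N, lam ⟨g * n * g⁻¹, hN.conj_mem (n : G) n.2 g⟩ = lam n}
  one_mem' := by
    intro n
    congr 1
    apply Subtype.ext
    show (1 : G) * n * 1⁻¹ = n
    group
  mul_mem' := by
    intro a b ha hb n
    have h1 := ha ⟨b * n * b⁻¹, hN.conj_mem (n : G) n.2 b⟩
    rw [hb n] at h1
    rw [← h1]
    congr 1
    apply Subtype.ext
    show a * b * n * (a * b)⁻¹ = a * (b * n * b⁻¹) * a⁻¹
    group
  inv_mem' := by
    intro a ha n
    have h1 := ha ⟨a⁻¹ * n * a⁻¹⁻¹, hN.conj_mem (n : G) n.2 a⁻¹⟩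
    rw [← h1]
    congr 1
    apply Subtype.ext
    show a * (a⁻¹ * n * a⁻¹⁻¹) * a⁻¹ = (n : G)
    group

omit [Finite G] in
theorem mem_inertia (N : Subgroup G) [hN : N.Normal] (lam : N →* ℂˣ) (g : G) :
    g ∈ inertia N lam ↔
      ∀ n : N, lam ⟨g * n * g⁻¹, hN.conj_mem (n : G) n.2 g⟩ = lam n := Iff.rfl

omit [Fact q.Prime] in
/-- The degree hypothesis passes to quotients; the invariant characters of the `p'`-core of a
quotient have degree prime to `q`. -/
theorem not_dvd_of_inv (hdeg : ∀ χ : IrrCharacter G, ¬ p ∣ charDegree (χ : G → ℂ) →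
      ¬ q ∣ charDegree (χ : G → ℂ)) (N : Subgroup G) [N.Normal] (P : Sylow p (G ⧸ N))
    [Fintype ↥(pPrimeCore p (G ⧸ N))]
    (θ : IrrCharacter ↥(pPrimeCore p (G ⧸ N))) (hθ : SInv (P : Subgroup (G ⧸ N)) (pPrimeCore p (G ⧸ N)) θ) :
    ¬ q ∣ charDegree (θ : ↥(pPrimeCore p (G ⧸ N)) → ℂ) := by
  classical
  have := Fintype.ofFinite (G ⧸ N)
  have hpP : p.Prime := Fact.out
  have hcop : ¬ p ∣ Nat.card (pPrimeCore p (G ⧸ N)) :=
    (hpP.coprime_iff_not_dvd).1 (Lib.Cores.pPrimeCore_coprime (G := G ⧸ N) p).symm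
  obtain ⟨χ, hχ, hover⟩ := OverLin.exists_over_inv (pPrimeCore p (G ⧸ N)) hcop P θ hθ
  have h1 : IsIrrCharacter G (fun g => (χ : G ⧸ N → ℂ) (QuotientGroup.mk' N g)) :=
    isIrr_comp (QuotientGroup.mk' N) (QuotientGroup.mk'_surjective N) χ.2
  have h2 : charDegree (fun g => (χ : G ⧸ N → ℂ) (QuotientGroup.mk' N g)) =
      charDegree (χ : G ⧸ N → ℂ) := by
    apply Basic.charDegree_of_eq
    rw [map_one, Basic.irr_one_eq_charDegree χ.2]
  have h3 : ¬ q ∣ charDegree (χ : G ⧸ N → ℂ) := by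
    rw [← h2]
    apply hdeg ⟨_, h1⟩
    show ¬ p ∣ charDegree (fun g => (χ : G ⧸ N → ℂ) (QuotientGroup.mk' N g))
    rwa [h2]
  have h4 := (S0887.result (pPrimeCore p (G ⧸ N)) (χ : G ⧸ N → ℂ) χ.2 θ θ.2 hover _ _
    (Basic.irr_one_eq_charDegree χ.2) (Basic.irr_one_eq_charDegree θ.2)).1
  exact fun hd => h3 (hd.trans h4)

theorem normalizes (hqs : IsPSolvable q G)
    (hdeg : ∀ χ : IrrCharacter G, ¬ p ∣ charDegree (χ : G → ℂ) → ¬ q ∣ charDegree (χ : G → ℂ))
    (N : Subgroup G) [hN : N.Normal] (P : Sylow p G) (Q : Sylow q G)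
    (hPQ : ∀ x ∈ (P : Subgroup G), ∀ y ∈ (Q : Subgroup G), x * y * x⁻¹ * y⁻¹ ∈ N)
    (hQK : (Q : Subgroup G).map (QuotientGroup.mk' N) ≤ pPrimeCore p (G ⧸ N)) :
    pPrimeCore p (G ⧸ N) ⊓
      Subgroup.centralizer ((P : Subgroup G).map (QuotientGroup.mk' N) : Set (G ⧸ N)) ≤
      Subgroup.normalizer ((Q : Subgroup G).map (QuotientGroup.mk' N) : Set (G ⧸ N)) := by
  classical
  have := Fintype.ofFinite ↥(pPrimeCore p (G ⧸ N))
  have hpP : p.Prime := Fact.out
  have hsurj := QuotientGroup.mk'_surjective N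
  have hcop : ¬ p ∣ Nat.card (pPrimeCore p (G ⧸ N)) :=
    (hpP.coprime_iff_not_dvd).1 (Lib.Cores.pPrimeCore_coprime (G := G ⧸ N) p).symm
  refine CoprimeIto.main p q _ (G ⧸ N) (pPrimeCore p (G ⧸ N)) _ _ rfl
    (Lib.PSolvable.IsPSolvable_of_surjective q hqs _ hsurj) (P.isPGroup'.map _) hcop hQK
    (Q.isPGroup'.map _) ?_ ?_ ?_
  · intro hd
    exact (Q.mapSurjective hsurj).not_dvd_index
      (hd.trans (Subgroup.relIndex_mul_index hQK ▸ Dvd.intro _ rfl))
  · rintro _ ⟨y, hy, rfl⟩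
    rw [Subgroup.mem_centralizer_iff]
    rintro _ ⟨x, hx, rfl⟩
    have h1 : QuotientGroup.mk' N (x * y * x⁻¹ * y⁻¹) = 1 := by
      rw [← MonoidHom.mem_ker, QuotientGroup.ker_mk']
      exact hPQ x hx y hy
    rw [map_mul, map_mul, map_mul, map_inv, map_inv, mul_inv_eq_one, mul_inv_eq_iff_eq_mul] at h1
    exact h1
  · intro θ hθ
    exact not_dvd_of_inv hdeg N (P.mapSurjective hsurj) θ hθ

/-- `P`-invariant linear characters are `Q`-invariant. -/
theorem q_invariant (hqs : IsPSolvable q G)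
    (hdeg : ∀ χ : IrrCharacter G, ¬ p ∣ charDegree (χ : G → ℂ) → ¬ q ∣ charDegree (χ : G → ℂ))
    (N L : Subgroup G) [hN : N.Normal] (hab : ∀ a ∈ N, ∀ b ∈ N, a * b = b * a)
    (hinf : N ⊓ L = ⊥) (hsup : N ⊔ L = ⊤) (P : Sylow p G) (Q : Sylow q G)
    (hPQ : ∀ x ∈ (P : Subgroup G), ∀ y ∈ (Q : Subgroup G), x * y * x⁻¹ * y⁻¹ ∈ N)
    (hQK : (Q : Subgroup G).map (QuotientGroup.mk' N) ≤ pPrimeCore p (G ⧸ N))
    (lam : N →* ℂˣ) (hlam : (P : Subgroup G) ≤ inertia N lam) :
    (Q : Subgroup G) ≤ inertia N lam := by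
  classical
  have := Fintype.ofFinite G
  have hpP : p.Prime := Fact.out
  have hqP : q.Prime := Fact.out
  set T := inertia N lam with hT
  have hNT : N ≤ T := by
    intro x hx n
    congr 1
    apply Subtype.ext
    show x * n * x⁻¹ = n
    rw [hab x hx n n.2]; group
  have hTp : ¬ p ∣ T.index := fun hd => P.not_dvd_index (hd.trans (Subgroup.index_dvd_of_le hlam))
  have hTq : ¬ q ∣ T.index :=
    OverLin.not_dvd_index hdeg N L hab hinf hsup lam T (fun g => Iff.rfl) hTp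
  set f := QuotientGroup.mk' N with hf
  have hsurj : Function.Surjective f := QuotientGroup.mk'_surjective N
  set Kb := pPrimeCore p (G ⧸ N) with hKb
  have hKbn : Kb.Normal := Lib.Cores.pPrimeCore_normal p
  have hcopK : (Nat.card Kb).Coprime p := Lib.Cores.pPrimeCore_coprime (G := G ⧸ N) p
  set Pb : Subgroup (G ⧸ N) := (P : Subgroup G).map f with hPb
  set Qb : Subgroup (G ⧸ N) := (Q : Subgroup G).map f with hQb
  set Tb : Subgroup (G ⧸ N) := T.map f with hTb
  have hPT : Pb ≤ Tb := Subgroup.map_mono hlam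
  -- a Sylow subgroup of `Tb`
  have hTbq : ¬ q ∣ Tb.index := by
    have h1 : Tb.index = T.index := by
      exact Subgroup.index_map_eq T hsurj (by rw [hf, QuotientGroup.ker_mk']; exact hNT)
    rwa [h1]
  have hQcomm : Qb ≤ Subgroup.centralizer (Pb : Set (G ⧸ N)) := by
    rintro _ ⟨y, hy, rfl⟩
    rw [Subgroup.mem_centralizer_iff]
    rintro _ ⟨x, hx, rfl⟩
    have h1 : f (x * y * x⁻¹ * y⁻¹) = 1 := by
      rw [← MonoidHom.mem_ker, hf, QuotientGroup.ker_mk']
      exact hPQ x hx y hy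
    rw [map_mul, map_mul, map_mul, map_inv, map_inv, mul_inv_eq_one, mul_inv_eq_iff_eq_mul] at h1
    exact h1
  set D : Subgroup (G ⧸ N) := Tb ⊓ Kb with hD
  have hDq : ¬ q ∣ D.index := by
    obtain ⟨S⟩ := (inferInstance : Nonempty (Sylow q Tb))
    set S1 : Subgroup (G ⧸ N) := (S : Subgroup Tb).map Tb.subtype with hS1
    have hS1i : ¬ q ∣ S1.index := by
      have h1 : S1.relIndex Tb = (S : Subgroup Tb).index := by
        rw [Subgroup.relIndex, hS1, Subgroup.subgroupOf, Subgroup.comap_map_eq_self_of_injective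
          (Subgroup.subtype_injective _)]
      rw [← Subgroup.relIndex_mul_index (Subgroup.map_subtype_le (S : Subgroup Tb)), ← hS1, h1]
      intro hd
      rcases hqP.dvd_mul.1 hd with h2 | h2
      · exact S.not_dvd_index h2
      · exact hTbq h2
    set S2 : Sylow q (G ⧸ N) := (S.2.map Tb.subtype).toSylow hS1i with hS2
    have hS2' : (S2 : Subgroup (G ⧸ N)) = S1 := rfl
    obtain ⟨g, hg⟩ := MulAction.exists_smul_eq (G ⧸ N) (Q.mapSurjective hsurj) S2
    have h3 : S1 ≤ Kb := by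
      rw [← hS2', ← hg]
      intro x hx
      rw [Sylow.coe_subgroup_smul, Subgroup.mem_pointwise_smul_iff_inv_smul_mem] at hx
      have h4 : (MulAut.conj g)⁻¹ • x ∈ Kb := hQK hx
      have h5 : x = g * ((MulAut.conj g)⁻¹ • x) * g⁻¹ := by
        rw [← map_inv]
        show x = g * (MulAut.conj g⁻¹ x) * g⁻¹
        rw [MulAut.conj_apply]; group
      rw [h5]
      exact hKbn.conj_mem _ h4 g
    intro hd
    exact hS1i (hd.trans (Subgroup.index_dvd_of_le (le_inf (Subgroup.map_subtype_le _) h3)))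
  have hPD : Pb ≤ Subgroup.normalizer (D : Set (G ⧸ N)) := by
    intro x hx
    refine mem_normalizer_of_conj fun d hd => ⟨?_, ?_⟩
    · exact Tb.mul_mem (Tb.mul_mem (hPT hx) hd.1) (Tb.inv_mem (hPT hx))
    · exact hKbn.conj_mem _ hd.2 x
  have hPbp : IsPGroup p Pb := P.isPGroup'.map f
  have hcopD : (Nat.card Pb).Coprime (Nat.card D) := by
    obtain ⟨a, ha⟩ := IsPGroup.iff_card.1 hPbp
    rw [ha]
    exact Nat.Coprime.pow_left a (hcopK.symm.coprime_dvd_right (Subgroup.card_dvd_of_le inf_le_right))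
  have hcopKb : (Nat.card Pb).Coprime (Nat.card Kb) := by
    obtain ⟨a, ha⟩ := IsPGroup.iff_card.1 hPbp
    rw [ha]
    exact Nat.Coprime.pow_left a hcopK.symm
  have hsolv : Group.IsSolvable Pb := by
    have : Group.IsNilpotent Pb := hPbp.isNilpotent
    infer_instance
  obtain ⟨R, hR⟩ := S0023.result Pb D hPD hcopD (Or.inl hsolv) q
  set R1 : Subgroup (G ⧸ N) := (R : Subgroup D).map D.subtype with hR1
  have hR1D : R1 ≤ D := Subgroup.map_subtype_le _
  have hR1K : R1 ≤ Kb := hR1D.trans inf_le_right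
  have hR1i : ¬ q ∣ R1.index := by
    have h1 : R1.relIndex D = (R : Subgroup D).index := by
      rw [Subgroup.relIndex, hR1, Subgroup.subgroupOf, Subgroup.comap_map_eq_self_of_injective
        (Subgroup.subtype_injective _)]
    rw [← Subgroup.relIndex_mul_index hR1D, h1]
    intro hd
    rcases hqP.dvd_mul.1 hd with h2 | h2
    · exact R.not_dvd_index h2
    · exact hDq h2
  have hsub : ∀ X : Subgroup (G ⧸ N), IsPGroup q X → X ≤ Kb → ¬ q ∣ X.index →
      ∃ Y : Sylow q Kb, (Y : Subgroup Kb).map Kb.subtype = X := by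
    intro X hX hXK hXi
    have h1 : IsPGroup q (X.subgroupOf Kb) :=
      hX.comap_of_injective Kb.subtype Kb.subtype_injective
    have h2 : ¬ q ∣ (X.subgroupOf Kb).index := fun hd =>
      hXi (hd.trans (Subgroup.relIndex_mul_index hXK ▸ Dvd.intro _ rfl))
    exact ⟨h1.toSylow h2, by
      show (X.subgroupOf Kb).map Kb.subtype = X
      rw [Subgroup.subgroupOf_map_subtype, inf_eq_left.2 hXK]⟩
  obtain ⟨Y1, hY1⟩ := hsub Qb (Q.isPGroup'.map f) hQK (Q.mapSurjective hsurj).not_dvd_index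
  obtain ⟨Y2, hY2⟩ := hsub R1 (R.2.map _) hR1K hR1i
  obtain ⟨c, hc, hcY⟩ := S0024.result Pb Kb (fun x _ => mem_normalizer_of_conj fun k hk =>
      hKbn.conj_mem k hk x) hcopKb (Or.inl hsolv) q Y1 Y2 (by
    rw [hY1]
    intro x hx
    refine mem_normalizer_of_conj fun y hy => ?_
    rw [Subgroup.mem_centralizer_iff.1 (hQcomm hy) x hx, mul_assoc, mul_inv_cancel, mul_one]
    exact hy) (by rw [hY2]; exact hR)
  have hcN : (c : G ⧸ N) ∈ Subgroup.normalizer (Qb : Set (G ⧸ N)) :=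
    normalizes hqs hdeg N P Q hPQ hQK ⟨c.2, hc⟩
  have hQR : Qb ≤ R1 := by
    intro y hy
    have h1 : (c : G ⧸ N)⁻¹ * y * c ∈ Qb := by
      have := (Subgroup.mem_normalizer_iff'.1 hcN ((c : G ⧸ N)⁻¹ * y)).2 (by
        rw [mul_inv_cancel_left]; exact hy)
      exact this
    rw [← hY1] at h1
    obtain ⟨z, hz, hz'⟩ := h1
    rw [← hY2, ← hcY]
    refine ⟨c * z * c⁻¹, ?_, ?_⟩
    · exact ⟨z, hz, rfl⟩
    · show ((c * z * c⁻¹ : Kb) : G ⧸ N) = y
      push_cast
      rw [show (z : G ⧸ N) = (c : G ⧸ N)⁻¹ * y * c from hz']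
      group
  intro y hy
  have h1 : f y ∈ Tb := (hR1D (hQR ⟨y, hy, rfl⟩)).1
  obtain ⟨t, ht, hty⟩ := h1
  have h2 : t⁻¹ * y ∈ N := by
    rw [← QuotientGroup.ker_mk' N, MonoidHom.mem_ker, ← hf, map_mul, map_inv, hty, inv_mul_cancel]
  have h3 : y = t * (t⁻¹ * y) := by group
  rw [h3]
  exact T.mul_mem ht (hNT h2)

/-- The case of a unique minimal normal subgroup which is a `p`-group. -/
theorem main_p (hpq : p ≠ q) (hps : IsPSolvable p G) (hqs : IsPSolvable q G)
    (hdeg : ∀ χ : IrrCharacter G, ¬ p ∣ charDegree (χ : G → ℂ) → ¬ q ∣ charDegree (χ : G → ℂ))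
    (N : Subgroup G) [hN : N.Normal] (hNp : IsPGroup p N) (hNbot : N ≠ ⊥)
    (huniq : ∀ N2 : Subgroup G, N2.Normal → N2 ≠ ⊥ → N ≤ N2) (P : Sylow p G) (Q : Sylow q G)
    (hPQ : ∀ x ∈ (P : Subgroup G), ∀ y ∈ (Q : Subgroup G), x * y * x⁻¹ * y⁻¹ ∈ N) :
    (Q : Subgroup G) = ⊥ := by
  classical
  have hpP : p.Prime := Fact.out
  have hqP : q.Prime := Fact.out
  have hab := abelian_of_unique N hNp hNbot huniq
  set f := QuotientGroup.mk' N with hf
  have hsurj : Function.Surjective f := QuotientGroup.mk'_surjective N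
  have hker : f.ker = N := QuotientGroup.ker_mk' N
  set Kb := pPrimeCore p (G ⧸ N) with hKb
  have hKbn : Kb.Normal := Lib.Cores.pPrimeCore_normal p
  have hcopK : (Nat.card Kb).Coprime p := Lib.Cores.pPrimeCore_coprime (G := G ⧸ N) p
  have hQK : (Q : Subgroup G).map f ≤ Kb := by
    refine le_pPrimeCore hpq (Lib.PSolvable.IsPSolvable_of_surjective p hps f hsurj)
      (P.mapSurjective hsurj) _ (Q.isPGroup'.map f) ?_
    rintro _ ⟨y, hy, rfl⟩
    rw [Subgroup.mem_centralizer_iff]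
    rintro _ ⟨x, hx, rfl⟩
    have h1 : f (x * y * x⁻¹ * y⁻¹) = 1 := by
      rw [← MonoidHom.mem_ker, hker]
      exact hPQ x hx y hy
    rw [map_mul, map_mul, map_mul, map_inv, map_inv, mul_inv_eq_one, mul_inv_eq_iff_eq_mul] at h1
    exact h1
  set K : Subgroup G := Kb.comap f with hK
  have hKn : K.Normal := hKbn.comap f
  have hNK : N ≤ K := by
    rw [← hker]; exact Subgroup.ker_le_comap f Kb
  have hQK' : (Q : Subgroup G) ≤ K := Subgroup.map_le_iff_le_comap.1 hQK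
  have hNn' : (N.subgroupOf K).Normal := inferInstance
  have hcardN : Nat.card (N.subgroupOf K) = Nat.card N :=
    Nat.card_congr (Subgroup.subgroupOfEquivOfLe hNK).toEquiv
  obtain ⟨a, ha⟩ := IsPGroup.iff_card.1 hNp
  have hidx : (N.subgroupOf K).index = Nat.card Kb := by
    have h1 : N.relIndex K = Nat.card Kb := by
      have h2 : N = (⊥ : Subgroup (G ⧸ N)).comap f := by rw [MonoidHom.comap_bot, hker]
      have h3 : (N : Subgroup G).relIndex K = ((⊥ : Subgroup (G ⧸ N)).comap f).relIndex K := by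
        rw [← h2]
      rw [h3, Subgroup.relIndex_comap, hK, Subgroup.map_comap_eq_self_of_surjective hsurj,
        Subgroup.relIndex_bot_left]
    exact h1
  have hcop : (Nat.card (N.subgroupOf K)).Coprime (N.subgroupOf K).index := by
    rw [hidx, hcardN, ha]
    exact Nat.Coprime.pow_left a hcopK.symm
  obtain ⟨H, hH⟩ := Subgroup.exists_right_complement'_of_coprime hcop
  have hcop' : (Nat.card (N.subgroupOf K)).Coprime (Nat.card H) := by
    rwa [hH.symm.index_eq_card] at hcop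
  set H1 : Subgroup G := H.map K.subtype with hH1
  set L : Subgroup G := Subgroup.normalizer (H1 : Set G) with hL
  have hNL : N ⊔ L = ⊤ := frattini_compl N K hab H hH hcop'
  have hNH1 : ∀ x ∈ N, x ∈ H1 → x = 1 := by
    rintro _ hxN ⟨k, hk, rfl⟩
    have h1 : k ∈ (N.subgroupOf K) ⊓ H := ⟨hxN, hk⟩
    rw [hH.disjoint.eq_bot, Subgroup.mem_bot] at h1
    rw [h1]; rfl
  have hKdec : ∀ k ∈ K, ∃ n ∈ N, ∃ h ∈ H1, n * h = k := by
    intro k hk
    have h1 : (⟨k, hk⟩ : K) ∈ (N.subgroupOf K) ⊔ H := by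
      rw [hH.sup_eq_top]; exact Subgroup.mem_top _
    obtain ⟨n, hn, h, hh, he⟩ := Subgroup.mem_sup_of_normal_left.1 h1
    exact ⟨n, hn, h, ⟨h, hh, rfl⟩, congrArg Subtype.val he⟩
  have hpq1 : ∀ x ∈ N, x ∈ (Q : Subgroup G) → x = 1 := by
    intro x hxN hxQ
    have h1 : x ∈ N ⊓ (Q : Subgroup G) := ⟨hxN, hxQ⟩
    rwa [disjoint_of_ne hpq hNp Q.isPGroup', Subgroup.mem_bot] at h1
  -- `N ⊓ L` is normal
  have hgen : ∀ X : Subgroup G, (∀ n ∈ N, ∀ x ∈ X, n * x * n⁻¹ ∈ X) →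
      (∀ l ∈ L, ∀ x ∈ X, l * x * l⁻¹ ∈ X) → X.Normal := by
    intro X h1 h2
    refine ⟨fun x hx g => ?_⟩
    obtain ⟨n, hn, l, hl, rfl⟩ := Subgroup.mem_sup_of_normal_left.1 (hNL ▸ Subgroup.mem_top g)
    have h3 : n * l * x * (n * l)⁻¹ = n * (l * x * l⁻¹) * n⁻¹ := by group
    rw [h3]
    exact h1 n hn _ (h2 l hl x hx)
  have hinf : N ⊓ L = ⊥ ∨ (Q : Subgroup G) = ⊥ := by
    by_cases hne : N ⊓ L = ⊥
    · exact Or.inl hne
    right
    have h1 : (N ⊓ L).Normal := by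
      apply hgen
      · intro n hn x hx
        rw [hab n hn x hx.1, mul_assoc, mul_inv_cancel, mul_one]
        exact hx
      · intro l hl x hx
        exact ⟨hN.conj_mem x hx.1 l, L.mul_mem (L.mul_mem hl hx.2) (L.inv_mem hl)⟩
    have h2 : N ≤ L := (huniq _ h1 hne).trans inf_le_right
    have h3 : L = ⊤ := by rw [← hNL, sup_eq_right.2 h2]
    have h4 : H1.Normal := Subgroup.normalizer_eq_top_iff.1 h3
    have h5 : H1 = ⊥ := by
      by_contra h6
      apply hNbot
      rw [eq_bot_iff]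
      intro x hx
      exact Subgroup.mem_bot.2 (hNH1 x hx (huniq H1 h4 h6 hx))
    rw [eq_bot_iff]
    intro y hy
    obtain ⟨n, hn, h, hh, rfl⟩ := hKdec y (hQK' hy)
    rw [h5, Subgroup.mem_bot] at hh
    rw [hh, mul_one] at hy ⊢
    exact Subgroup.mem_bot.2 (hpq1 n hn hy)
  rcases hinf with hinf | hinf
  swap
  · exact hinf
  have hNP : N ≤ P := (Lib.Cores.le_pCore hN hNp).trans (Lib.Cores.pCore_le_sylow P)
  -- `Q` centralizes `N`
  have hQN : N ≤ Subgroup.centralizer ((Q : Subgroup G) : Set G) := by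
    by_contra hcon
    set C : Subgroup G := N ⊓ Subgroup.centralizer ((Q : Subgroup G) : Set G) with hC
    have hCN : C ≤ N := inf_le_left
    have hCne : C ≠ N := fun h => hcon (h ▸ inf_le_right)
    have hCP : ∀ x ∈ (P : Subgroup G), ∀ c ∈ C, x * c * x⁻¹ ∈ C := by
      intro x hx c hc
      refine ⟨hN.conj_mem c hc.1 x, Subgroup.mem_centralizer_iff.2 ?_⟩
      intro y hy
      have h1 : x⁻¹ * y * x * y⁻¹ ∈ N := by
        have := hPQ x⁻¹ ((P : Subgroup G).inv_mem hx) y hy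
        rwa [inv_inv] at this
      have h2 : (x⁻¹ * y * x * y⁻¹) * c = c * (x⁻¹ * y * x * y⁻¹) := hab _ h1 _ hc.1
      have h3 : y * c = c * y := Subgroup.mem_centralizer_iff.1 hc.2 y hy
      calc y * (x * c * x⁻¹) = x * ((x⁻¹ * y * x * y⁻¹) * (y * c)) * x⁻¹ := by group
        _ = x * ((x⁻¹ * y * x * y⁻¹) * (c * y)) * x⁻¹ := by rw [h3]
        _ = x * (((x⁻¹ * y * x * y⁻¹) * c) * y) * x⁻¹ := by group
        _ = x * ((c * (x⁻¹ * y * x * y⁻¹)) * y) * x⁻¹ := by rw [h2]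
        _ = x * c * x⁻¹ * y := by group
    obtain ⟨lam, hlP, hlC, n, hn⟩ := exists_lam (P : Subgroup G) P.isPGroup' N C hNP hab hCN hCP hCne
    have hlQ := q_invariant hqs hdeg N L hab hinf hNL P Q hPQ hQK lam (fun x hx => hlP x hx)
    set U : Subgroup G := lam.ker.map N.subtype with hU
    have hCU : C ≤ U := fun c hc => ⟨⟨c, hCN hc⟩, hlC c hc, rfl⟩
    have hQU : ⁅N, (Q : Subgroup G)⁆ ≤ U := by
      rw [Subgroup.commutator_comm, Subgroup.commutator_le]
      intro y hy m hm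
      refine ⟨⟨y * m * y⁻¹, hN.conj_mem m hm y⟩ * (⟨m, hm⟩ : N)⁻¹, ?_, ?_⟩
      · show lam _ = 1
        rw [map_mul, map_inv, hlQ hy ⟨m, hm⟩, mul_inv_cancel]
      · rw [commutatorElement_def]; rfl
    have hcopQ : (Nat.card (Q : Subgroup G)).Coprime (Nat.card N) := by
      obtain ⟨b, hb⟩ := IsPGroup.iff_card.1 Q.isPGroup'
      rw [ha, hb]
      exact Nat.Coprime.pow b a ((Nat.coprime_primes hqP hpP).2 hpq.symm)
    have hsolv : Group.IsSolvable (Q : Subgroup G) := by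
      have : Group.IsNilpotent (Q : Subgroup G) := Q.isPGroup'.isNilpotent
      infer_instance
    have h1 := S0026.result (Q : Subgroup G) N (fun y _ => mem_normalizer_of_conj fun m hm =>
      hN.conj_mem m hm y) hcopQ (Or.inl hsolv)
    have h2 : N ≤ U := by
      rw [← h1]
      exact sup_le hQU hCU
    obtain ⟨m, hm, hm'⟩ := h2 n.2
    apply hn
    rw [← show m = n from Subtype.ext hm']
    exact hm
  -- `Z`
  set Z : Subgroup G := Subgroup.centralizer (N : Set G) ⊓ H1 with hZ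
  have hZn : Z.Normal := by
    have hCn : (Subgroup.centralizer (N : Set G)).Normal := inferInstance
    apply hgen
    · intro n hn z hz
      rw [Subgroup.mem_centralizer_iff.1 hz.1 n hn, mul_assoc, mul_inv_cancel, mul_one]
      exact hz
    · intro l hl z hz
      exact ⟨hCn.conj_mem z hz.1 l, (Subgroup.mem_normalizer_iff.1 hl z).1 hz.2⟩
  have hZbot : Z = ⊥ := by
    by_contra h6
    apply hNbot
    rw [eq_bot_iff]
    intro x hx
    exact Subgroup.mem_bot.2 (hNH1 x hx (huniq Z hZn h6 hx).2)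
  rw [eq_bot_iff]
  intro y hy
  obtain ⟨n, hn, h, hh, rfl⟩ := hKdec y (hQK' hy)
  have h1 : h ∈ Z := by
    refine ⟨Subgroup.mem_centralizer_iff.2 ?_, hh⟩
    intro m hm
    have h2 : (n * h) * m = m * (n * h) := Subgroup.mem_centralizer_iff.1 (hQN hm) _ hy
    have h3 : n * m = m * n := hab n hn m hm
    calc m * h = n⁻¹ * (n * m) * h := by group
      _ = n⁻¹ * (m * n) * h := by rw [h3]
      _ = n⁻¹ * (m * (n * h)) := by group
      _ = n⁻¹ * ((n * h) * m) := by rw [h2]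
      _ = h * m := by group
  rw [hZbot, Subgroup.mem_bot] at h1
  rw [h1, mul_one] at hy ⊢
  exact Subgroup.mem_bot.2 (hpq1 n hn hy)

/-- The degree condition on the characters with the `p'`-core in the kernel. -/
def Cond (p q : ℕ) (X : Type u) [Group X] : Prop :=
  ∀ χ : IrrCharacter X, (∀ x ∈ pPrimeCore p X, (χ : X → ℂ) x = (χ : X → ℂ) 1) →
    ¬ p ∣ charDegree (χ : X → ℂ) → ¬ q ∣ charDegree (χ : X → ℂ)

omit [Fact p.Prime] [Fact q.Prime] in
theorem Cond.quotient (h : Cond p q G) (N : Subgroup G) [N.Normal] : Cond p q (G ⧸ N) := by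
  intro χ hχ hp
  have hsurj := QuotientGroup.mk'_surjective N
  have h1 : IsIrrCharacter G (fun g => (χ : G ⧸ N → ℂ) (QuotientGroup.mk' N g)) :=
    isIrr_comp (QuotientGroup.mk' N) hsurj χ.2
  have h2 : charDegree (fun g => (χ : G ⧸ N → ℂ) (QuotientGroup.mk' N g)) =
      charDegree (χ : G ⧸ N → ℂ) := by
    apply Basic.charDegree_of_eq
    rw [map_one, Basic.irr_one_eq_charDegree χ.2]
  rw [← h2] at hp ⊢
  refine h ⟨_, h1⟩ (fun x hx => ?_) hp
  show (χ : G ⧸ N → ℂ) (QuotientGroup.mk' N x) = (χ : G ⧸ N → ℂ) (QuotientGroup.mk' N 1)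
  rw [map_one]
  apply hχ
  have hn : (pPrimeCore p G).Normal := Lib.Cores.pPrimeCore_normal p
  have h3 : (pPrimeCore p G).map (QuotientGroup.mk' N) ≤ pPrimeCore p (G ⧸ N) := by
    refine Lib.Cores.le_pPrimeCore (hn.map _ hsurj) ?_
    exact (Lib.Cores.pPrimeCore_coprime (G := G) p).coprime_dvd_left
      (Subgroup.card_map_dvd _ (QuotientGroup.mk' N))
  exact h3 ⟨x, hx, rfl⟩

/-- `p`-group case. -/
theorem caseA (hpq : p ≠ q) (hps : IsPSolvable p G) (hqs : IsPSolvable q G) (hc : Cond p q G)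
    (N : Subgroup G) [hN : N.Normal] (hNp : IsPGroup p N) (hNbot : N ≠ ⊥)
    (hmin : ∀ N2 : Subgroup G, N2.Normal → N2 ≠ ⊥ → N2 ≤ N → N2 = N)
    (ih : ∀ N2 : Subgroup G, N2.Normal → N2 ≠ ⊥ → ∃ (P : Sylow p G) (Q : Sylow q G),
      ∀ x ∈ (P : Subgroup G), ∀ y ∈ (Q : Subgroup G), x * y * x⁻¹ * y⁻¹ ∈ N2) :
    ∃ (P : Sylow p G) (Q : Sylow q G), ∀ x ∈ (P : Subgroup G), ∀ y ∈ (Q : Subgroup G),
      x * y = y * x := by
  have hpP : p.Prime := Fact.out
  obtain ⟨P, Q, hPQ⟩ := ih N hN hNbot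
  by_cases hex : ∃ N2 : Subgroup G, N2.Normal ∧ N2 ≠ ⊥ ∧ ¬ N ≤ N2
  · obtain ⟨N2, hN2, hN2bot, hle⟩ := hex
    have hinf : N ⊓ N2 = ⊥ := by
      by_contra hne
      have := hmin (N ⊓ N2) inferInstance hne inf_le_left
      exact hle (this ▸ inf_le_right)
    obtain ⟨P2, Q2, hPQ2⟩ := ih N2 hN2 hN2bot
    have hNP2 : N ≤ P2 := (Lib.Cores.le_pCore hN hNp).trans (Lib.Cores.pCore_le_sylow P2)
    have h2 : (Q2 : Subgroup G) ≤ Subgroup.centralizer (N : Set G) := by
      intro y hy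
      rw [Subgroup.mem_centralizer_iff]
      intro n hn
      have h3 : n * y * n⁻¹ * y⁻¹ ∈ N ⊓ N2 := by
        refine ⟨?_, hPQ2 n (hNP2 hn) y hy⟩
        have h4 : n * y * n⁻¹ * y⁻¹ = n * (y * n⁻¹ * y⁻¹) := by group
        rw [h4]
        exact N.mul_mem hn (hN.conj_mem _ (N.inv_mem hn) y)
      rw [hinf, Subgroup.mem_bot, mul_inv_eq_one, mul_inv_eq_iff_eq_mul] at h3
      exact h3
    obtain ⟨g, hg⟩ := MulAction.exists_smul_eq G Q Q2
    have hcn : (Subgroup.centralizer (N : Set G)).Normal := inferInstance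
    have h3 : (Q : Subgroup G) ≤ Subgroup.centralizer (N : Set G) := by
      intro y hy
      have h4 : g * y * g⁻¹ ∈ (Q2 : Subgroup G) := by
        rw [← hg]
        exact ⟨y, hy, rfl⟩
      have h5 := hcn.conj_mem _ (h2 h4) g⁻¹
      have h6 : g⁻¹ * (g * y * g⁻¹) * g⁻¹⁻¹ = y := by group
      rwa [h6] at h5
    exact ⟨P, Q, commute_of_centralizes hpq N hNp P Q Q.isPGroup' hPQ h3⟩
  · push Not at hex
    have hcore : pPrimeCore p G = ⊥ := by
      by_contra hne
      have h1 := hex _ (Lib.Cores.pPrimeCore_normal p) hne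
      have h2 := (Lib.Cores.pPrimeCore_coprime (G := G) p).coprime_dvd_left
        (Subgroup.card_dvd_of_le h1)
      obtain ⟨a, ha⟩ := IsPGroup.iff_card.1 hNp
      apply hNbot
      rw [← Subgroup.card_eq_one]
      rw [ha] at h2 ⊢
      rcases Nat.eq_zero_or_pos a with h3 | h3
      · rw [h3, pow_zero]
      · rw [Nat.coprime_pow_left_iff h3, Nat.coprime_self] at h2
        exact absurd h2 hpP.one_lt.ne'
    have hdeg : ∀ χ : IrrCharacter G, ¬ p ∣ charDegree (χ : G → ℂ) →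
        ¬ q ∣ charDegree (χ : G → ℂ) := by
      intro χ
      refine hc χ fun x hx => ?_
      rw [hcore, Subgroup.mem_bot] at hx
      rw [hx]
    have h1 := main_p hpq hps hqs hdeg N hNp hNbot hex P Q hPQ
    refine ⟨P, Q, fun x _ y hy => ?_⟩
    rw [h1, Subgroup.mem_bot] at hy
    rw [hy, mul_one, one_mul]

end

theorem exists_commuting (p q : ℕ) [Fact p.Prime] [Fact q.Prime] (hpq : p ≠ q) :
    ∀ (n : ℕ) (G : Type u) [Group G] [Finite G], Nat.card G = n → IsPSolvable p G →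
      IsPSolvable q G → Cond p q G → Cond q p G →
      ∃ (P : Sylow p G) (Q : Sylow q G), ∀ x ∈ (P : Subgroup G), ∀ y ∈ (Q : Subgroup G),
        x * y = y * x := by
  intro n
  induction n using Nat.strong_induction_on with
  | _ n ihn =>
  intro G _ _ hcard hps hqs hc1 hc2
  have hpP : p.Prime := Fact.out
  have hqP : q.Prime := Fact.out
  -- the induction hypothesis for quotients
  have ih : ∀ N : Subgroup G, N.Normal → N ≠ ⊥ → ∃ (P : Sylow p G) (Q : Sylow q G),
      ∀ x ∈ (P : Subgroup G), ∀ y ∈ (Q : Subgroup G), x * y * x⁻¹ * y⁻¹ ∈ N := by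
    intro N hN hbot
    have hsurj := QuotientGroup.mk'_surjective N
    have hlt : Nat.card (G ⧸ N) < n := by
      rw [← hcard, ← Subgroup.index_eq_card]
      have h1 := N.card_mul_index
      have h2 : 1 < Nat.card N := (Subgroup.one_lt_card_iff_ne_bot N).2 hbot
      have h3 : 0 < N.index := Nat.pos_of_ne_zero Subgroup.index_ne_zero_of_finite
      rw [← h1]
      exact lt_mul_of_one_lt_left h3 h2
    obtain ⟨P', Q', h⟩ := ihn _ hlt (G ⧸ N) rfl
      (Lib.PSolvable.IsPSolvable_of_surjective p hps _ hsurj)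
      (Lib.PSolvable.IsPSolvable_of_surjective q hqs _ hsurj) (hc1.quotient N) (hc2.quotient N)
    obtain ⟨P, hP⟩ := Sylow.mapSurjective_surjective hsurj p P'
    obtain ⟨Q, hQ⟩ := Sylow.mapSurjective_surjective hsurj q Q'
    refine ⟨P, Q, fun x hx y hy => ?_⟩
    have h1 := h (QuotientGroup.mk' N x) (hP ▸ ⟨x, hx, rfl⟩) (QuotientGroup.mk' N y)
      (hQ ▸ ⟨y, hy, rfl⟩)
    rw [← QuotientGroup.ker_mk' N, MonoidHom.mem_ker, map_mul, map_mul, map_mul, map_inv, map_inv,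
      h1, mul_inv_cancel_right, mul_inv_cancel]
  rcases subsingleton_or_nontrivial G with hss | hnt
  · obtain ⟨P⟩ := (inferInstance : Nonempty (Sylow p G))
    obtain ⟨Q⟩ := (inferInstance : Nonempty (Sylow q G))
    exact ⟨P, Q, fun x _ y _ => Subsingleton.elim _ _⟩
  -- a minimal normal subgroup
  obtain ⟨N, ⟨hN, hNbot⟩, hmin⟩ : ∃ N : Subgroup G, (N.Normal ∧ N ≠ ⊥) ∧
      ∀ N2 : Subgroup G, (N2.Normal ∧ N2 ≠ ⊥) → N2 ≤ N → N2 = N := by
    have hfin : Set.Finite {N : Subgroup G | N.Normal ∧ N ≠ ⊥} := Set.toFinite _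
    obtain ⟨N, hN⟩ := hfin.exists_minimal ⟨⊤, inferInstance, top_ne_bot⟩
    exact ⟨N, hN.prop, fun N2 h2 hle => le_antisymm hle (hN.le_of_le h2 hle)⟩
  have hmin' : ∀ N2 : Subgroup G, N2.Normal → N2 ≠ ⊥ → N2 ≤ N → N2 = N :=
    fun N2 h1 h2 h3 => hmin N2 ⟨h1, h2⟩ h3
  have htype : ∀ (r : ℕ) [Fact r.Prime], IsPSolvable r G → IsPGroup r N ∨ ¬ r ∣ Nat.card N := by
    intro r _ hr
    obtain ⟨L, hL, h1, h2, h3⟩ := Lib.PSolvable.sep_of_pSolvable r hr ⊥ N inferInstance hN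
      (bot_lt_iff_ne_bot.2 hNbot)
    have h4 : L = N := hmin' L hL h1.ne' h2
    rw [Subgroup.relIndex_bot_left, h4] at h3
    rcases h3 with ⟨m, hm⟩ | h3
    · exact Or.inl (IsPGroup.of_card hm)
    · exact Or.inr (((Fact.out : r.Prime).coprime_iff_not_dvd).1 h3.symm)
  rcases htype p hps with hp1 | hp1
  · exact caseA hpq hps hqs hc1 N hp1 hNbot hmin' ih
  rcases htype q hqs with hq1 | hq1
  · obtain ⟨Q, P, h⟩ := caseA hpq.symm hqs hps hc2 N hq1 hNbot hmin' (fun N2 h1 h2 => by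
      obtain ⟨P, Q, h⟩ := ih N2 h1 h2
      refine ⟨Q, P, fun x hx y hy => ?_⟩
      have h3 : x * y * x⁻¹ * y⁻¹ = (y * x * y⁻¹ * x⁻¹)⁻¹ := by group
      rw [h3]
      exact N2.inv_mem (h y hy x hx))
    exact ⟨P, Q, fun x hx y hy => (h y hy x hx).symm⟩
  · obtain ⟨P, Q, h⟩ := ih N hN hNbot
    obtain ⟨Q1, h1⟩ := exists_commuting_of_coprime hpq N hp1 hq1 P Q h
    exact ⟨P, Q1, h1⟩

end Cfsg.Agent.H699.CommMain
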