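import Cfsg.Agent.H576.Ext.HcDefs
import Cfsg.Agent.H53.HC.Gal

/-!
# Cuspidal characters of `GL_k(K)` restricted to `DL D k` (helper699, S4832)

`K = F_q`, `[L : K] = k`, `D ≤ Kˣ`, `DL D k` the matrices of determinant in `D`.

* `CusG`, `GenAt` : cuspidal data with the Galois conditions;
* `dorth_psi`, `dirr_psi` : orthogonality, irreducibility on `DL D k` of the characters `psi L θ`;
* `fmap_psi`, `dualc_psi` : the action of field automorphisms and of the duality;
* `dorth_pow`, `dorth_pow_conj`, `dirr_pow` : the arithmetic forms for `θ = φ ^ a`, `φ` injective.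
-/

set_option autoImplicit false
set_option linter.unusedSectionVars false

open scoped ComplexConjugate
open Cfsg

namespace Cfsg.Agent.H576.Ext

open Cfsg.Agent.H477.HC Cfsg.Agent.H53.HC Cfsg.Agent.Characters Module

universe u

/-- a cuspidal datum with the Galois conditions -/
structure CusG (K : Type u) [Field K] (k : ℕ) (σ : K →+* K) (c : GL (Fin k) K → ℂ) : Prop where
  irr : IsIrrCharacter _ c
  cusp : IsCusp c
  dual : c ∘ ((Matrix.GeneralLinearGroup.map σ).comp (invT k)) ≠ c
  deg : c 1 = ((∏ i ∈ Finset.Ico 1 k, (Nat.card K ^ i - 1) : ℕ) : ℂ)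
  self : DIrr ⊥ c
  opp : 3 ≤ k → DOrth ⊥ c (dualc σ c)
  nu : ∃ ν : Kˣ →* ℂˣ, ∀ (z : Kˣ) (A : GL (Fin k) K),
    c (Matrix.GeneralLinearGroup.scalar (Fin k) z * A) = (ν (z * Units.map (σ : K →* K) z) : ℂ) * c A

/-- the Galois condition at `τ` and `D` -/
def GenAt (K : Type u) [Field K] (k : ℕ) (σ : K →+* K) (D : Subgroup Kˣ) (τ : K ≃+* K) (c : GL (Fin k) K → ℂ) : Prop :=
  DOrth D c (fmap (τ : K →+* K) c) ∧ DOrth D c (dualc σ (fmap (τ : K →+* K) c))

end Cfsg.Agent.H576.Ext

namespace Cfsg.Agent.H699.CusG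

open Cfsg.Agent.H477.HC Cfsg.Agent.H53.HC Cfsg.Agent.H53.HC.Gal Cfsg.Agent.Characters Module
open Cfsg.Agent.H139.Cusp Cfsg.Agent.H576.Ext

universe u w

attribute [local instance] fintypeHom fintypeSub finite_quot

section basic

variable {K : Type u} [Field K] [Finite K]

/-- the subgroup `D` of the cyclic group `Kˣ` -/
theorem mem_iff_pow (D : Subgroup Kˣ) (z : Kˣ) : z ∈ D ↔ z ^ Nat.card D = 1 := by
  classical
  have : Fintype Kˣ := Fintype.ofFinite _
  constructor
  · intro hz
    have h1 : (⟨z, hz⟩ : D) ^ Nat.card D = 1 := pow_card_eq_one'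
    exact congrArg Subtype.val h1
  · intro hz
    let E : Finset Kˣ := Finset.univ.filter fun x => x ^ Nat.card D = 1
    have h1 : E.card ≤ Nat.card D := IsCyclic.card_pow_eq_one_le Nat.card_pos
    have : Fintype D := Fintype.ofFinite _
    let E' : Finset Kˣ := Finset.univ.filter fun x => x ∈ D
    have h2 : E'.card = Nat.card D := by
      rw [Nat.card_eq_fintype_card, Fintype.card_subtype]
    have h3 : E' ⊆ E := by
      intro x hx
      rw [Finset.mem_filter] at hx ⊢
      have h4 : (⟨x, hx.2⟩ : D) ^ Nat.card D = 1 := pow_card_eq_one'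
      exact ⟨Finset.mem_univ _, congrArg Subtype.val h4⟩
    have h4 : E' = E := Finset.eq_of_subset_of_card_le h3 (by rw [h2]; exact h1)
    have h5 : z ∈ E := Finset.mem_filter.2 ⟨Finset.mem_univ _, hz⟩
    rw [← h4, Finset.mem_filter] at h5
    exact h5.2

/-- the index of `D` -/
theorem index_mul_card (D : Subgroup Kˣ) : Nat.card D * D.index = Nat.card K - 1 := by
  rw [Subgroup.card_mul_index, Nat.card_units]

theorem index_pos (D : Subgroup Kˣ) : 0 < D.index := Nat.pos_of_ne_zero Subgroup.index_ne_zero_of_finite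

open Classical in
/-- orthogonality: the characters of `Kˣ` trivial on `D` -/
theorem sum_mu_D {μ : K →*₀ ℂ} (hμ : Function.Injective μ) (D : Subgroup Kˣ) (x : Kˣ) :
    ∑ a ∈ Finset.range D.index, μ (x : K) ^ (Nat.card D * (a + 1)) = if x ∈ D then (D.index : ℂ) else 0 := by
  have h0 : ∀ a, μ (x : K) ^ (Nat.card D * (a + 1)) = (μ (x : K) ^ Nat.card D) ^ (a + 1) := fun a => pow_mul _ _ _
  split_ifs with h
  · have h1 : x ^ Nat.card D = 1 := (mem_iff_pow D x).1 h
    have h2 : μ (x : K) ^ Nat.card D = 1 := by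
      rw [← map_pow, ← Units.val_pow_eq_pow_val, h1, Units.val_one, map_one]
    simp only [h0, h2, one_pow, Finset.sum_const, Finset.card_range, nsmul_eq_mul, mul_one]
  · have h1 : μ (x : K) ^ Nat.card D ≠ 1 := by
      intro e
      rw [← map_pow, ← Units.val_pow_eq_pow_val] at e
      apply h
      rw [mem_iff_pow]
      exact Units.ext (hμ (e.trans (map_one μ).symm))
    have h2 : (μ (x : K) ^ Nat.card D) ^ D.index = 1 := by
      rw [← pow_mul, index_mul_card, ← Nat.card_units, ← map_pow, ← Units.val_pow_eq_pow_val, pow_card_eq_one',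
        Units.val_one, map_one]
    have h3 := geom_sum_eq h1 D.index
    rw [h2, sub_self, zero_div] at h3
    simp only [h0, pow_succ]
    rw [← Finset.sum_mul, h3, zero_mul]

variable {n : ℕ}

theorem sum_DL {μ : K →*₀ ℂ} (hμ : Function.Injective μ) (D : Subgroup Kˣ) (H : GL (Fin n) K → ℂ)
    [Fintype (GL (Fin n) K)] [Fintype (DL D n)] :
    ∑ a ∈ Finset.range D.index, ∑ g : GL (Fin n) K,
      μ (Matrix.det (g : Matrix (Fin n) (Fin n) K)) ^ (Nat.card D * (a + 1)) * H g =
    (D.index : ℂ) * ∑ A : DL D n, H A := by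
  classical
  rw [Finset.sum_comm]
  have h1 : ∀ g : GL (Fin n) K, ∑ a ∈ Finset.range D.index,
      μ (Matrix.det (g : Matrix (Fin n) (Fin n) K)) ^ (Nat.card D * (a + 1)) * H g =
      if g ∈ DL D n then (D.index : ℂ) * H g else 0 := by
    intro g
    have h2 : Matrix.det (g : Matrix (Fin n) (Fin n) K) = (Matrix.GeneralLinearGroup.det g : Kˣ) := rfl
    rw [← Finset.sum_mul, h2, sum_mu_D hμ D]
    have h3 : Matrix.GeneralLinearGroup.det g ∈ D ↔ g ∈ DL D n := Iff.rfl
    by_cases h : g ∈ DL D n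
    · rw [if_pos (h3.2 h), if_pos h]
    · rw [if_neg (fun h' => h (h3.1 h')), if_neg h, zero_mul]
  rw [Finset.sum_congr rfl fun g _ => h1 g, ← Finset.sum_filter, Finset.mul_sum]
  symm
  refine Finset.sum_bij (fun A _ => (A : GL (Fin n) K)) ?_ ?_ ?_ ?_
  · intro A _
    exact Finset.mem_filter.2 ⟨Finset.mem_univ _, A.2⟩
  · intro A _ B _ h
    exact Subtype.ext h
  · intro g hg
    exact ⟨⟨g, (Finset.mem_filter.1 hg).2⟩, Finset.mem_univ _, rfl⟩
  · intro A _
    rfl

end basic

section orth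

variable {K : Type u} [Field K] [Finite K] {L : Type w} [Field L] [Finite L] [Algebra K L] {n : ℕ}

/-- the exponents of the twists -/
theorem expo_ne (D : Subgroup Kˣ) (a : ℕ) : Nat.card D * (a + 1) ≠ 0 :=
  mul_ne_zero Nat.card_pos.ne' (Nat.succ_ne_zero a)

open Classical in
/-- **inner products on `DL D n`** -/
theorem sum_psi (hn : Module.finrank K L = n) {μ : K →*₀ ℂ} (hμ : Function.Injective μ) (D : Subgroup Kˣ)
    (θ θ' : L →*₀ ℂ) [Fintype (GL (Fin n) K)] [Fintype (DL D n)] :
    (D.index : ℂ) * ∑ A : DL D n, psi L θ (A : GL (Fin n) K) * conj (psi L θ' (A : GL (Fin n) K)) =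
    ∑ a ∈ Finset.range D.index, (Nat.card (GL (Fin n) K) : ℂ) *
      (((Finset.range n).filter fun i => ∀ x : L, θ' x =
        (twist θ (powTheta μ (Nat.card D * (a + 1)) (expo_ne D a))) (x ^ Nat.card K ^ i)).card : ℂ) := by
  have : Finite ((Fin n → K) →ₗ[K] (Fin n → K)) := DFunLike.finite _
  have : Fintype ((Fin n → K) →ₗ[K] (Fin n → K))ˣ := Fintype.ofFinite _
  rw [← sum_DL hμ D (fun g => psi L θ g * conj (psi L θ' g))]
  refine Finset.sum_congr rfl fun a _ => ?_
  have h1 := classInner_gl (n := n) (F := K) (twist θ (powTheta μ (Nat.card D * (a + 1)) (expo_ne D a))) θ'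
  rw [cusp_inner _ _ (by rw [Module.finrank_fin_fun, hn]), hn, Core.classInner_def] at h1
  rw [← h1, ← mul_assoc, mul_inv_cancel₀ Core.card_ne_zero_complex, one_mul]
  refine Finset.sum_congr rfl fun g _ => ?_
  rw [psi_twist θ _ hn, powTheta_apply, mul_assoc]

/-- **Orthogonality on `DL D n`.** -/
theorem dorth_psi (hn : Module.finrank K L = n) (D : Subgroup Kˣ) (θ θ' : L →*₀ ℂ)
    (h : ∀ i < n, ¬ ∀ x : L, (∃ d ∈ D, Algebra.norm K x = (d : K)) → θ' x = θ (x ^ Nat.card K ^ i)) :
    DOrth D (psi (n := n) (F := K) L θ) (psi L θ') := by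
  classical
  intro _
  have : Finite (Matrix (Fin n) (Fin n) K) := inferInstance
  have : Finite (GL (Fin n) K) := inferInstance
  have : Fintype (GL (Fin n) K) := Fintype.ofFinite _
  obtain ⟨μ, hμ⟩ := exists_theta K
  have h1 := sum_psi hn hμ D θ θ'
  have h2 : ∀ a ∈ Finset.range D.index, (Nat.card (GL (Fin n) K) : ℂ) *
      (((Finset.range n).filter fun i => ∀ x : L, θ' x =
        (twist θ (powTheta μ (Nat.card D * (a + 1)) (expo_ne D a))) (x ^ Nat.card K ^ i)).card : ℂ) = 0 := by
    intro a _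
    have h3 : ((Finset.range n).filter fun i => ∀ x : L, θ' x =
        (twist θ (powTheta μ (Nat.card D * (a + 1)) (expo_ne D a))) (x ^ Nat.card K ^ i)) = ∅ := by
      rw [Finset.filter_eq_empty_iff]
      intro i hi h4
      refine h i (Finset.mem_range.1 hi) fun x hx => ?_
      obtain ⟨d, hd, hxd⟩ := hx
      have h5 : μ (d : K) ^ Nat.card D = 1 := by
        rw [← map_pow, ← Units.val_pow_eq_pow_val, (mem_iff_pow D d).1 hd, Units.val_one, map_one]
      rw [h4 x, twist_apply, map_pow (Algebra.norm K), hxd, powTheta_apply, map_pow μ, ← pow_mul,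
        mul_comm (Nat.card K ^ i), mul_assoc, pow_mul, h5, one_pow, mul_one]
    rw [h3, Finset.card_empty, Nat.cast_zero, mul_zero]
  rw [Finset.sum_eq_zero h2] at h1
  exact (mul_eq_zero.1 h1).resolve_left (Nat.cast_ne_zero.2 (index_pos D).ne')

theorem card_DL (D : Subgroup Kˣ) (hn : 0 < n) : Nat.card (GL (Fin n) K) = Nat.card (DL D n) * D.index := by
  have h1 : Function.Surjective (Matrix.GeneralLinearGroup.det : GL (Fin n) K →* Kˣ) := by
    intro d
    let v : Fin n → K := fun i => if i = ⟨0, hn⟩ then (d : K) else 1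
    have hv : (Matrix.diagonal v).det = d := by
      rw [Matrix.det_diagonal, Finset.prod_ite_eq']
      rw [if_pos (Finset.mem_univ _)]
    refine ⟨Matrix.GeneralLinearGroup.mkOfDetNeZero (Matrix.diagonal v) (by rw [hv]; exact d.ne_zero), ?_⟩
    apply Units.ext
    exact hv
  have h2 : (DL D n).index = D.index := Subgroup.index_comap_of_surjective D h1
  rw [← h2, Subgroup.card_mul_index]

/-- **Irreducibility on `DL D n`.** -/
theorem dirr_psi (hn : Module.finrank K L = n) (hn0 : 0 < n) (D : Subgroup Kˣ) (θ : L →*₀ ℂ)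
    (hirr : IsIrrCharacter _ (psi (n := n) (F := K) L θ))
    (h : ∀ i, 0 < i → i < n → ¬ ∀ x : L, (∃ d ∈ D, Algebra.norm K x = (d : K)) → θ x = θ (x ^ Nat.card K ^ i)) :
    DIrr D (psi (n := n) (F := K) L θ) := by
  classical
  have : Finite (Matrix (Fin n) (Fin n) K) := inferInstance
  have : Finite (GL (Fin n) K) := inferInstance
  have : Fintype (GL (Fin n) K) := Fintype.ofFinite _
  have : Fintype (DL D n) := Fintype.ofFinite _
  obtain ⟨μ, hμ⟩ := exists_theta K
  have hch : IsCharacter (DL D n) (fun A => psi L θ (A : GL (Fin n) K)) :=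
    Core.isCharacter_comp (DL D n).subtype (Core.isIrr_isCharacter hirr)
  refine Core.isIrr_of_classInner_self hch ?_
  have h1 := sum_psi hn hμ D θ θ
  have hm := index_pos D
  have h2 : ∀ a ∈ Finset.range D.index, (Nat.card (GL (Fin n) K) : ℂ) *
      (((Finset.range n).filter fun i => ∀ x : L, θ x =
        (twist θ (powTheta μ (Nat.card D * (a + 1)) (expo_ne D a))) (x ^ Nat.card K ^ i)).card : ℂ) =
      if a = D.index - 1 then (Nat.card (GL (Fin n) K) : ℂ) else 0 := by
    intro a ha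
    rw [Finset.mem_range] at ha
    have hpos : ∀ i, 0 < i → i < n → ¬ ∀ x : L, θ x =
        (twist θ (powTheta μ (Nat.card D * (a + 1)) (expo_ne D a))) (x ^ Nat.card K ^ i) := by
      intro i hi0 hi h4
      refine h i hi0 hi fun x hx => ?_
      obtain ⟨d, hd, hxd⟩ := hx
      have h5 : μ (d : K) ^ Nat.card D = 1 := by
        rw [← map_pow, ← Units.val_pow_eq_pow_val, (mem_iff_pow D d).1 hd, Units.val_one, map_one]
      have h6 := h4 x
      rw [twist_apply, map_pow (Algebra.norm K), hxd, powTheta_apply, map_pow μ, ← pow_mul,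
        mul_comm (Nat.card K ^ i), mul_assoc, pow_mul, h5, one_pow, mul_one] at h6
      exact h6
    split_ifs with hc
    · have h3 : ((Finset.range n).filter fun i => ∀ x : L, θ x =
          (twist θ (powTheta μ (Nat.card D * (a + 1)) (expo_ne D a))) (x ^ Nat.card K ^ i)) = {0} := by
        ext i
        rw [Finset.mem_filter, Finset.mem_singleton, Finset.mem_range]
        constructor
        · rintro ⟨hi, h4⟩
          by_contra h0
          exact hpos i (Nat.pos_of_ne_zero h0) hi h4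
        · rintro rfl
          refine ⟨hn0, fun x => ?_⟩
          rw [pow_zero, pow_one, twist_apply, powTheta_apply]
          by_cases hx : x = 0
          · rw [hx, map_zero, zero_mul]
          · have h5 : Algebra.norm K x ≠ 0 := by
              rw [Ne, Algebra.norm_eq_zero_iff]
              exact hx
            have h6 : (Units.mk0 _ h5) ^ (Nat.card K - 1) = 1 := by
              rw [← Nat.card_units]
              exact pow_card_eq_one'
            have h7 : (Algebra.norm K x) ^ (Nat.card K - 1) = 1 := congrArg Units.val h6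
            have h8 : Nat.card D * (a + 1) = Nat.card K - 1 := by
              rw [hc, Nat.sub_add_cancel hm, index_mul_card]
            rw [h8, ← map_pow, h7, map_one, mul_one]
      rw [h3, Finset.card_singleton, Nat.cast_one, mul_one]
    · have h3 : ((Finset.range n).filter fun i => ∀ x : L, θ x =
          (twist θ (powTheta μ (Nat.card D * (a + 1)) (expo_ne D a))) (x ^ Nat.card K ^ i)) = ∅ := by
        rw [Finset.filter_eq_empty_iff]
        intro i hi h4
        rcases Nat.eq_zero_or_pos i with h0 | h0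
        · subst h0
          -- the norm is surjective
          obtain ⟨γ, hγ⟩ := IsCyclic.exists_ofOrder_eq_natCard (α := Kˣ)
          obtain ⟨x, hx⟩ := FiniteField.norm_surjective K L (γ : K)
          have hx0 : x ≠ 0 := by
            rintro rfl
            rw [Algebra.norm_zero] at hx
            exact γ.ne_zero hx.symm
          have h5 := h4 x
          rw [pow_zero, pow_one, twist_apply, powTheta_apply, hx] at h5
          have h6 : μ (γ : K) ^ (Nat.card D * (a + 1)) = 1 := by
            have h7 : θ x ≠ 0 := (map_ne_zero θ).2 hx0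
            exact (mul_left_cancel₀ h7 ((mul_one _).trans h5)).symm
          rw [← map_pow, ← Units.val_pow_eq_pow_val] at h6
          have h7 : γ ^ (Nat.card D * (a + 1)) = 1 := Units.ext (hμ (h6.trans (map_one μ).symm))
          have h8 := orderOf_dvd_of_pow_eq_one h7
          rw [hγ, Nat.card_units, ← index_mul_card D] at h8
          have h9 := Nat.le_of_dvd (Nat.succ_pos a) (Nat.dvd_of_mul_dvd_mul_left Nat.card_pos h8)
          exact hc (by omega)
        · exact hpos i h0 (Finset.mem_range.1 hi) h4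
      rw [h3, Finset.card_empty, Nat.cast_zero, mul_zero]
  rw [Finset.sum_congr rfl h2, Finset.sum_ite_eq', if_pos (Finset.mem_range.2 (by omega)), card_DL D hn0,
    Nat.cast_mul, mul_comm (D.index : ℂ)] at h1
  have h3 := mul_right_cancel₀ (Nat.cast_ne_zero.2 hm.ne') h1
  rw [Core.classInner_def]
  have h4 : ∑ A : DL D n, (fun A : DL D n => psi L θ (A : GL (Fin n) K)) A *
      conj ((fun A : DL D n => psi L θ (A : GL (Fin n) K)) A) = (Nat.card (DL D n) : ℂ) := h3
  rw [h4]
  exact inv_mul_cancel₀ Core.card_ne_zero_complex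

end orth

section galois

variable {K : Type u} [Field K] [Finite K] {L : Type w} [Field L] [Finite L] [Algebra K L] {n : ℕ}

/-- field automorphisms -/
theorem fmap_psi (hn : Module.finrank K L = n) {p : ℕ} [Fact p.Prime] [CharP K p] {τ : K →+* K} {j : ℕ}
    (hτ : ∀ x : K, τ x = x ^ p ^ j) (θ : L →*₀ ℂ) :
    fmap τ (psi (n := n) (F := K) L θ) = psi L (powTheta θ (p ^ j) (pow_pos (Fact.out : p.Prime).pos j).ne') := by
  funext A
  let τ' : K ≃+* K := RingEquiv.ofBijective τ (Finite.injective_iff_bijective.1 τ.injective)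
  have hτ' : ∀ x : K, τ' x = x ^ p ^ j := hτ
  obtain ⟨σ, hσ, hστ⟩ := exists_ext (L := L) hτ'
  have h1 := cuspMat_semilinear hn hστ (θ := powTheta θ (p ^ j) (pow_pos (Fact.out : p.Prime).pos j).ne') (θ' := θ)
    (fun x => by rw [hσ, powTheta_apply, map_pow]) (A : Matrix (Fin n) (Fin n) K)
  exact h1

/-- the duality -/
theorem dualc_psi (hn : Module.finrank K L = n) {p : ℕ} [Fact p.Prime] [CharP K p] {σ : K →+* K} {j : ℕ}
    (hσ : ∀ x : K, σ x = x ^ p ^ j) (θ : L →*₀ ℂ) :
    dualc σ (psi (n := n) (F := K) L θ) =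
      psi L (conjTheta (powTheta θ (p ^ j) (pow_pos (Fact.out : p.Prime).pos j).ne')) := by
  funext A
  have h1 : dualc σ (psi (n := n) (F := K) L θ) A = fmap σ (psi (n := n) (F := K) L θ) (invT n A) := rfl
  rw [h1, fmap_psi hn hσ, psi_invT _ hn]
  exact cusp_star L _ _

theorem dualc_psi_id (hn : Module.finrank K L = n) (θ : L →*₀ ℂ) :
    dualc (RingHom.id K) (psi (n := n) (F := K) L θ) = psi L (conjTheta θ) := by
  funext A
  have h1 : dualc (RingHom.id K) (psi (n := n) (F := K) L θ) A = psi (n := n) (F := K) L θ (invT n A) := rfl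
  rw [h1, psi_invT _ hn]
  exact cusp_star L _ _

end galois

section arith

variable {K : Type u} [Field K] [Finite K] {L : Type w} [Field L] [Finite L] [Algebra K L] {n : ℕ}
  {φ : L →*₀ ℂ} (hφ : Function.Injective φ)

/-- a generator of the elements of norm in `D` -/
theorem exists_gen (hn : Module.finrank K L = n) (D : Subgroup Kˣ) :
    ∃ x : Lˣ, (∃ d ∈ D, Algebra.norm K (x : L) = (d : K)) ∧ orderOf x * D.index = Nat.card K ^ n - 1 := by
  obtain ⟨γ, hγ⟩ := IsCyclic.exists_ofOrder_eq_natCard (α := Lˣ)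
  have h5 : Algebra.norm K (γ : L) ≠ 0 := by
    rw [Ne, Algebra.norm_eq_zero_iff]
    exact γ.ne_zero
  have hc : Nat.card Lˣ = Nat.card K ^ n - 1 := by
    rw [Nat.card_units, Module.natCard_eq_pow_finrank (K := K), hn]
  have hdvd : D.index ∣ Nat.card K ^ n - 1 := by
    have h1 : D.index ∣ Nat.card K - 1 := ⟨Nat.card D, by rw [mul_comm, index_mul_card]⟩
    have h2 : Nat.card K - 1 ∣ Nat.card K ^ n - 1 := by
      have := Nat.sub_dvd_pow_sub_pow (Nat.card K) 1 n
      rwa [one_pow] at this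
    exact h1.trans h2
  refine ⟨γ ^ D.index, ⟨(Units.mk0 _ h5) ^ D.index, ?_, ?_⟩, ?_⟩
  · rw [mem_iff_pow, ← pow_mul, mul_comm, index_mul_card, ← Nat.card_units]
    exact pow_card_eq_one'
  · rw [Units.val_pow_eq_pow_val, map_pow, Units.val_pow_eq_pow_val, Units.val_mk0]
  · rw [orderOf_pow_of_dvd (index_pos D).ne' (by rw [hγ, hc]; exact hdvd), hγ, hc, Nat.div_mul_cancel hdvd]

include hφ

/-- `M = |{x ∈ Lˣ : N x ∈ D}|` : the restrictions of `φ ^ a`, `φ ^ b` -/
theorem dorth_pow (hn : Module.finrank K L = n) (D : Subgroup Kˣ) {M : ℕ} (hM : M * D.index = Nat.card K ^ n - 1)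
    {a b : ℕ} (ha : a ≠ 0) (hb : b ≠ 0) (h : ∀ i < n, ¬ (M : ℤ) ∣ (b : ℤ) - a * (Nat.card K : ℤ) ^ i) :
    DOrth D (psi (n := n) (F := K) L (powTheta φ a ha)) (psi L (powTheta φ b hb)) := by
  refine dorth_psi hn D _ _ fun i hi h1 => h i hi ?_
  obtain ⟨x, hx, hox⟩ := exists_gen hn D
  have hoM : orderOf x = M := Nat.eq_of_mul_eq_mul_right (index_pos D) (hox.trans hM.symm)
  have h2 := h1 (x : L) hx
  rw [powTheta_apply, powTheta_apply, map_pow, ← pow_mul, ← map_pow, ← map_pow] at h2
  have h3 : x ^ b = x ^ (Nat.card K ^ i * a) := Units.ext (hφ h2)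
  rw [pow_eq_pow_iff_modEq, hoM, Nat.modEq_iff_dvd] at h3
  have h4 : (b : ℤ) - a * (Nat.card K : ℤ) ^ i = -(((Nat.card K ^ i * a : ℕ) : ℤ) - (b : ℤ)) := by
    push_cast; ring
  rw [h4, dvd_neg]
  exact h3

/-- the restrictions of `φ ^ a`, `conj φ ^ b` -/
theorem dorth_pow_conj (hn : Module.finrank K L = n) (D : Subgroup Kˣ) {M : ℕ}
    (hM : M * D.index = Nat.card K ^ n - 1)
    {a b : ℕ} (ha : a ≠ 0) (hb : b ≠ 0) (h : ∀ i < n, ¬ (M : ℤ) ∣ (b : ℤ) + a * (Nat.card K : ℤ) ^ i) :
    DOrth D (psi (n := n) (F := K) L (powTheta φ a ha)) (psi L (conjTheta (powTheta φ b hb))) := by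
  refine dorth_psi hn D _ _ fun i hi h1 => h i hi ?_
  obtain ⟨x, hx, hox⟩ := exists_gen hn D
  have hoM : orderOf x = M := Nat.eq_of_mul_eq_mul_right (index_pos D) (hox.trans hM.symm)
  have h2 := h1 (x : L) hx
  rw [conjTheta_apply, conj_theta_eq, powTheta_apply, powTheta_apply, map_pow, ← pow_mul, ← map_pow, ← map_pow,
    ← Units.val_inv_eq_inv_val, ← Units.val_pow_eq_pow_val, ← Units.val_pow_eq_pow_val] at h2
  have h3 : x⁻¹ ^ b = x ^ (Nat.card K ^ i * a) := Units.ext (hφ h2)
  have h4 : x ^ (b + Nat.card K ^ i * a) = 1 := by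
    rw [pow_add, ← h3, inv_pow, mul_inv_cancel]
  have h5 := orderOf_dvd_of_pow_eq_one h4
  rw [hoM] at h5
  have h6 : (b : ℤ) + a * (Nat.card K : ℤ) ^ i = ((b + Nat.card K ^ i * a : ℕ) : ℤ) := by
    push_cast; ring
  rw [h6]
  exact Int.natCast_dvd_natCast.2 h5

theorem dirr_pow (hn : Module.finrank K L = n) (hn0 : 0 < n) (D : Subgroup Kˣ) {M : ℕ}
    (hM : M * D.index = Nat.card K ^ n - 1) {a : ℕ} (ha : a ≠ 0)
    (h : ∀ i, 0 < i → i < n → ¬ (M : ℤ) ∣ (a : ℤ) - a * (Nat.card K : ℤ) ^ i) :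
    DIrr D (psi (n := n) (F := K) L (powTheta φ a ha)) := by
  have hM2 : (M : ℤ) ∣ ((Nat.card K ^ n - 1 : ℕ) : ℤ) := by
    rw [← hM]; exact Int.natCast_dvd_natCast.2 (dvd_mul_right _ _)
  have hirr : IsIrrCharacter _ (psi (n := n) (F := K) L (powTheta φ a ha)) := by
    refine psi_isIrr _ hn ((regular_powTheta_iff hφ ha hn).2 fun i hi0 hi h1 => h i hi0 hi ?_)
    have h2 : ((Nat.card K ^ n - 1 : ℕ) : ℤ) ∣ ((a * (Nat.card K ^ i - 1) : ℕ) : ℤ) := Int.natCast_dvd_natCast.2 h1
    have h3 : (a : ℤ) - a * (Nat.card K : ℤ) ^ i = -((a * (Nat.card K ^ i - 1) : ℕ) : ℤ) := by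
      have : 1 ≤ Nat.card K ^ i := Nat.one_le_pow _ _ Nat.card_pos
      push_cast [Nat.cast_sub this]; ring
    rw [h3, dvd_neg]
    exact hM2.trans h2
  refine dirr_psi hn hn0 D _ hirr fun i hi0 hi h1 => h i hi0 hi ?_
  obtain ⟨x, hx, hox⟩ := exists_gen hn D
  have hoM : orderOf x = M := Nat.eq_of_mul_eq_mul_right (index_pos D) (hox.trans hM.symm)
  have h2 := h1 (x : L) hx
  rw [powTheta_apply, powTheta_apply, map_pow, ← pow_mul, ← map_pow, ← map_pow] at h2
  have h3 : x ^ a = x ^ (Nat.card K ^ i * a) := Units.ext (hφ h2)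
  rw [pow_eq_pow_iff_modEq, hoM, Nat.modEq_iff_dvd] at h3
  have h4 : (a : ℤ) - a * (Nat.card K : ℤ) ^ i = -(((Nat.card K ^ i * a : ℕ) : ℤ) - (a : ℤ)) := by
    push_cast; ring
  rw [h4, dvd_neg]
  exact h3

end arith

end Cfsg.Agent.H699.CusG
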