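import Mathlib
import Cfsg.Agent.H624.AsmMain
import Cfsg.Agent.H617.OlssonMain
import Cfsg.Agent.S4539
import Cfsg.Agent.S0908
import Cfsg.Agent.H699.ThreeAct

/-!
# `k(B) ≤ |D|` for `3`-blocks with an abelian defect group which has a cyclic subgroup of index nine

Package H of the assembly of S4542.
-/

set_option autoImplicit false
set_option linter.unusedSectionVars false

open Cfsg

namespace Cfsg.Agent.H699.BrauerAbThree

open Cfsg.Agent.H617.AbelRank Cfsg.Agent.H617.StarAut
open Cfsg.Agent.H652.DoubleCount Cfsg.Agent.H645.FusCount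
open Cfsg.Agent.H624.Asm Cfsg.Agent.H624.AbRank Cfsg.Agent.H649
open Cfsg.Agent.H699.ThreeAct

universe u

section general

variable {G : Type u} [Group G] [Fintype G] {p : ℕ} [Fact p.Prime] {M : Ideal AlgInt} [M.IsPrime]

variable (hM : IsPModular p M) {B : Set (IrrCharacter G)} {a : BrauerPairIdx G}
  (hmax : IsMaximalBrauerPair p M B a.1 a.2) (hab : ∀ x ∈ a.1, ∀ y ∈ a.1, x * y = y * x)

include hM hmax hab

/-- Rank at most two at some element. -/
theorem card_le_of_rank_two {v : G} (hv : v ∈ a.1) (h : blockRank p (bP p M a v).2 ≤ 2) :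
    Nat.card B ≤ Nat.card a.1 := by
  obtain ⟨b, a', h1, h2, h3, h4, h5, h6⟩ := exists_local hM hmax hab hv
  have := Fintype.ofFinite (Subgroup.centralizer ({v} : Set G))
  have hD := Cfsg.Agent.H644.isDefectGroup_of_isMaximalBrauerPair hM hmax
  have hD' := Cfsg.Agent.H644.isDefectGroup_of_isMaximalBrauerPair hM h4
  rw [h3] at hD'
  rw [← h2] at h
  rw [Cfsg.Agent.S0908.result p M hM B hmax.1.2.1 a.1 hD]
  exact Cfsg.Agent.S4539.result p M hM B hmax.1.2.1 a.1 hD v hv
    (fun d hd => hab d hd v hv) b h1 hD' h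

/-- Inertial quotient of order two acting as a reflection, `p = 3`. -/
theorem rank_le_two_of_two
    (hidx : (Subgroup.centralizer (a.1 : Set G)).relIndex (stab a) = 2)
    (hW : 3 * Nat.card {w : G // w ∈ a.1 ∧ ∀ t ∈ stab a, t * w * t⁻¹ = w} = Nat.card a.1) :
    blockRank p B ≤ 2 := by
  have h1 := card_of_prime hM hmax hab Nat.prime_two hidx
  set W := Nat.card {w : G // w ∈ a.1 ∧ ∀ t ∈ stab a, t * w * t⁻¹ = w} with hWdef
  have hWpos : 0 < W := by
    have hpos : 0 < Nat.card a.1 := Nat.card_pos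
    omega
  -- an element outside `W`
  obtain ⟨v, hv, hvn⟩ : ∃ v ∈ a.1, ¬ ∀ t ∈ stab a, t * v * t⁻¹ = v := by
    by_contra hno
    push Not at hno
    have h2 : W = Nat.card a.1 := Nat.card_congr
      { toFun := fun w => ⟨w.1, w.2.1⟩
        invFun := fun w => ⟨w.1, w.2, hno w.1 w.2⟩
        left_inv := fun _ => rfl
        right_inv := fun _ => rfl }
    omega
  have hrank : blockRank p (bP p M a v).2 = 1 :=
    rank_one_of_prime hM hmax hab Nat.prime_two hidx hv hvn
  have h3 := card_le_of_rank_two hM hmax hab hv (by rw [hrank]; norm_num)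
  rw [← hW] at h1 h3
  -- 2 k + W = 2 W l + 3 W, k ≤ 3 W
  have h4 : W * (2 * blockRank p B) ≤ W * 4 := by nlinarith
  have h5 := Nat.le_of_mul_le_mul_left h4 hWpos
  omega

end general

variable {G : Type u} [Group G] [Finite G] {M : Ideal AlgInt}

/-- Local inertial quotient of order two. -/
theorem rank_le_two (hM : IsPModular 3 M) {B : Set (IrrCharacter G)}
    {a : BrauerPairIdx G} (hmax : IsMaximalBrauerPair 3 M B a.1 a.2)
    (hab : ∀ x ∈ a.1, ∀ y ∈ a.1, x * y = y * x) {u : G} (hu : u ∈ a.1)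
    (hidx : (Subgroup.centralizer (a.1 : Set G)).relIndex
      (stab a ⊓ Subgroup.centralizer ({u} : Set G)) = 2)
    (hW : 3 * Nat.card {w : G // w ∈ a.1 ∧ ∀ t ∈ stab a, t * u * t⁻¹ = u → t * w * t⁻¹ = w} =
      Nat.card a.1) : blockRank 3 (bP 3 M a u).2 ≤ 2 := by
  classical
  have hp2 : Fact (Nat.Prime 3) := ⟨Nat.prime_three⟩
  have := Fintype.ofFinite G
  have hMp := Cfsg.Agent.Blocks.Local.isPrime_of_isPModular hM
  obtain ⟨b, a', hind, hrank, ha', hmax', hab', hstab⟩ := exists_local hM hmax hab hu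
  rw [← hrank]
  clear hrank
  obtain ⟨H, hH⟩ : ∃ H, H = Subgroup.centralizer ({u} : Set G) := ⟨_, rfl⟩
  rw [← hH] at hidx
  revert b a'
  rw [← hH]
  intro b a' hind ha' hmax' hab' hstab
  have := Fintype.ofFinite H
  have haH : a.1 ≤ H := by
    intro x hx
    rw [hH, Subgroup.mem_centralizer_singleton_iff]
    exact hab x hx u hu
  have hC' : Subgroup.centralizer (a'.1 : Set H) =
      (Subgroup.centralizer (a.1 : Set G)).subgroupOf H := by
    ext x
    rw [Subgroup.mem_subgroupOf, Subgroup.mem_centralizer_iff, Subgroup.mem_centralizer_iff]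
    constructor
    · intro h y hy
      have h1 : (⟨y, haH hy⟩ : H) ∈ a'.1 := by
        rw [ha', Subgroup.mem_subgroupOf]
        exact hy
      exact congrArg Subtype.val (h _ h1)
    · intro h y hy
      rw [SetLike.mem_coe, ha', Subgroup.mem_subgroupOf] at hy
      exact Subtype.ext (h y hy)
  have hS' : stab a' = (stab a ⊓ H).subgroupOf H := by
    ext x
    rw [hstab, Subgroup.mem_subgroupOf, Subgroup.mem_inf]
    exact ⟨fun h => ⟨h, x.2⟩, fun h => h.1⟩
  have hidx' : (Subgroup.centralizer (a'.1 : Set H)).relIndex (stab a') = 2 := by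
    rw [hC', hS', Subgroup.relIndex_subgroupOf inf_le_right, hidx]
  refine rank_le_two_of_two hM hmax' hab' hidx' ?_
  have hcard' : Nat.card a'.1 = Nat.card a.1 := by
    rw [ha']
    exact Nat.card_congr (Subgroup.subgroupOfEquivOfLe haH).toEquiv
  rw [hcard', ← hW]
  congr 1
  have htH : ∀ t : G, t * u * t⁻¹ = u → t ∈ H := by
    intro t htu
    rw [hH, Subgroup.mem_centralizer_singleton_iff]
    calc t * u = t * u * t⁻¹ * t := by group
      _ = u * t := by rw [htu]
  have hHt : ∀ t : H, (t : G) * u * (t : G)⁻¹ = u := by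
    intro t
    have h1 : (t : G) ∈ Subgroup.centralizer ({u} : Set G) := hH.le t.2
    rw [Subgroup.mem_centralizer_singleton_iff] at h1
    rw [h1]
    group
  refine Nat.card_congr
    { toFun := fun w => ⟨(w.1 : G), ?_, fun t ht htu => ?_⟩
      invFun := fun w => ⟨⟨w.1, haH w.2.1⟩, ?_, fun t ht => ?_⟩
      left_inv := fun _ => rfl
      right_inv := fun _ => rfl }
  · exact Subgroup.mem_subgroupOf.1 (ha'.le w.2.1)
  · exact congrArg Subtype.val (w.2.2 ⟨t, htH t htu⟩ ((hstab _).2 ht))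
  · rw [ha', Subgroup.mem_subgroupOf]
    exact w.2.1
  · exact Subtype.ext (w.2.2 t ((hstab t).1 ht) (hHt t))

theorem good_group {V : Type u} [inst : Group V] [Finite V]
    (hab : ∀ x y : V, x * y = y * x) (hV : IsPGroup 3 V)
    {Z : Subgroup V} (hZ : IsCyclic Z) (hidx : Z.index = 9)
    (hgen : ∀ x y : V, Subgroup.closure {x, y} ≠ ⊤)
    (A : Subgroup (MulAut V)) (hA : ¬ 3 ∣ Nat.card A) :
    ∃ u : V, ∃ S : Subgroup (MulAut V), (∀ s, s ∈ S ↔ s ∈ A ∧ s u = u) ∧
      (Nat.card S = 1 ∨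
        (Nat.card S = 2 ∧ 3 * Nat.card {x : V // ∀ s ∈ S, s x = x} = Nat.card V)) := by
  obtain ⟨C, hC⟩ : ∃ C : CommGroup V, C.toGroup = inst :=
    ⟨{ inst with mul_comm := hab }, rfl⟩
  subst hC
  obtain ⟨v, hv⟩ := ThreeAct.good hV hA hZ hidx hgen
  refine ⟨v, Stb A v, fun s => mem_Stb, ?_⟩
  rcases hv with h | h
  · left
    rw [h, Subgroup.card_bot]
  · exact Or.inr h

/-- Two generators. -/
theorem card_le_of_pair (hM : IsPModular 3 M) {B : Set (IrrCharacter G)} (hB : IsPBlock M B)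
    {D : Subgroup G} (hD : IsDefectGroup 3 M B D) (hab : ∀ x ∈ D, ∀ y ∈ D, x * y = y * x)
    {x y : G} (hxy : D = Subgroup.closure {x, y}) : Nat.card B ≤ Nat.card D := by
  have hp3 : Fact (Nat.Prime 3) := ⟨Nat.prime_three⟩
  have hx : x ∈ D := by rw [hxy]; exact Subgroup.subset_closure (by simp)
  have hy : y ∈ D := by rw [hxy]; exact Subgroup.subset_closure (by simp)
  obtain ⟨f, U, hU, h, hUx⟩ := exists_situation hM hB hD hx fun w hw => hab w hw x hx
  refine Cfsg.Agent.H624.AsmMain.card_le_cyclic hM h ?_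
  have hle := h.le_cent
  -- the image is generated by the image of `y`
  have hgen : ∀ q ∈ (D.subgroupOf (Subgroup.centralizer ({x} : Set G))).map (QuotientGroup.mk' U),
      q ∈ Subgroup.zpowers (QuotientGroup.mk' U ⟨y, hle hy⟩) := by
    have hle2 : D ≤ ((Subgroup.zpowers (QuotientGroup.mk' U ⟨y, hle hy⟩)).comap
        (QuotientGroup.mk' U)).map (Subgroup.centralizer ({x} : Set G)).subtype := by
      conv_lhs => rw [hxy]
      rw [Subgroup.closure_le]
      rintro w (rfl | rfl)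
      · refine ⟨⟨w, hle hx⟩, ?_, rfl⟩
        rw [SetLike.mem_coe, Subgroup.mem_comap]
        have h1 : QuotientGroup.mk' U ⟨w, hle hx⟩ = 1 := by
          rw [QuotientGroup.mk'_apply, QuotientGroup.eq_one_iff, hUx]
          exact Subgroup.mem_zpowers _
        rw [h1]
        exact Subgroup.one_mem _
      · exact ⟨⟨w, hle hy⟩, Subgroup.mem_zpowers _, rfl⟩
    rintro q ⟨d, hd, rfl⟩
    obtain ⟨c, hc, hcd⟩ := hle2 (Subgroup.mem_subgroupOf.1 hd)
    have h1 : c = d := Subtype.ext hcd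
    rw [← h1]
    exact hc
  have hmem : QuotientGroup.mk' U ⟨y, hle hy⟩ ∈
      (D.subgroupOf (Subgroup.centralizer ({x} : Set G))).map (QuotientGroup.mk' U) :=
    ⟨⟨y, hle hy⟩, Subgroup.mem_subgroupOf.2 hy, rfl⟩
  refine ⟨⟨⟨_, hmem⟩, ?_⟩⟩
  rintro ⟨q, hq⟩
  obtain ⟨n, hn⟩ := hgen q hq
  refine ⟨n, Subtype.ext ?_⟩
  exact hn

/-- **Package H** of S4542. -/
theorem pkgH {M : Ideal AlgInt} (hM : IsPModular 3 M) : Cfsg.Agent.H624.AsmMain.PkgH.{u} M := by
  intro G _ _ B D hB hD hab Z hZD hcyc hidx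
  have hp3 : Fact (Nat.Prime 3) := ⟨Nat.prime_three⟩
  have := Fintype.ofFinite G
  have hMp := Cfsg.Agent.Blocks.Local.isPrime_of_isPModular hM
  by_cases hpair : ∃ x y : G, D = Subgroup.closure {x, y}
  · obtain ⟨x, y, hxy⟩ := hpair
    exact card_le_of_pair hM hB hD hab hxy
  push Not at hpair
  obtain ⟨e, he⟩ := Cfsg.Agent.H649.exists_pair_of_isDefectGroup hM hB hD
  have hmax0 := Cfsg.Agent.H644.isMaximalBrauerPair_of_isDefectGroup hM he hD
  obtain ⟨a, ha⟩ : ∃ a : BrauerPairIdx G, a = ⟨D, e⟩ := ⟨_, rfl⟩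
  have hmax : IsMaximalBrauerPair 3 M B a.1 a.2 := by rw [ha]; exact hmax0
  have haD : a.1 = D := by rw [ha]
  rw [← haD] at hab hpair hidx hZD ⊢
  clear hmax0 he ha haD hD
  have hA : ¬ 3 ∣ Nat.card (autG a) := odd_autG hM hmax hab
  have hgen : ∀ x y : a.1, Subgroup.closure {x, y} ≠ ⊤ := by
    intro x y h
    apply hpair x y
    have h1 := MonoidHom.map_closure a.1.subtype {x, y}
    rw [h, ← MonoidHom.range_eq_map, Subgroup.range_subtype, Set.image_pair] at h1
    exact h1
  have hcyc' : IsCyclic (Z.subgroupOf a.1) :=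
    isCyclic_of_surjective (Subgroup.subgroupOfEquivOfLe hZD).symm.toMonoidHom
      (Subgroup.subgroupOfEquivOfLe hZD).symm.surjective
  obtain ⟨u, S, hS, hc⟩ := good_group (fun x y => Subtype.ext (hab x x.2 y y.2))
    hmax.1.1.1 hcyc' hidx hgen (autG a) hA
  have hrel := relIndex_inf hM hmax hab u.2 S hS
  rcases hc with h1 | ⟨h2, hW⟩
  · -- regular orbit
    rw [h1, Subgroup.relIndex_eq_one] at hrel
    refine card_le_of_rank_two hM hmax hab u.2 ?_
    rw [rank_one_at hM hmax hab u.2 ?_]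
    · norm_num
    · intro t ht htu x hx
      have h2 : t ∈ stab a ⊓ Subgroup.centralizer ({(u : G)} : Set G) := by
        refine Subgroup.mem_inf.2 ⟨ht, Subgroup.mem_centralizer_singleton_iff.2 ?_⟩
        calc t * (u : G) = t * u * t⁻¹ * t := by group
          _ = u * t := by rw [htu]
      have h3 := Subgroup.mem_centralizer_iff.1 (hrel h2) x hx
      rw [← h3]
      group
  · -- order two
    refine card_le_of_rank_two hM hmax hab u.2 ?_
    refine rank_le_two hM hmax hab u.2 (hrel.trans h2) ?_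
    rw [← hW]
    congr 1
    refine Nat.card_congr
      { toFun := fun w => ⟨⟨w.1, w.2.1⟩, fun s hs => ?_⟩
        invFun := fun x => ⟨x.1, x.1.2, fun t ht htu => ?_⟩
        left_inv := fun _ => rfl
        right_inv := fun _ => rfl }
    · obtain ⟨t, ht, hst⟩ := (mem_autG hM hmax hab).1 ((hS s).1 hs).1
      apply Subtype.ext
      rw [hst]
      refine w.2.2 t ht ?_
      rw [← hst, ((hS s).1 hs).2]
    · obtain ⟨α, hα, h⟩ := exists_autG hM hmax hab ht
      rw [← h, x.2 α ((hS α).2 ⟨hα, Subtype.ext (by rw [h, htu])⟩)]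

end Cfsg.Agent.H699.BrauerAbThree
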