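import Cfsg.Agent.H699.CusGBase

/-!
# Existence of cuspidal data in general position, linear case (helper699, S4832)

`exists_cusG`, `exists_cusG_two` : `θ = φ ^ a`, `a = 2` for `q` odd, `a = 1` for `q` even.
-/

set_option autoImplicit false
set_option linter.unusedSectionVars false

open scoped ComplexConjugate
open Cfsg

namespace Cfsg.Agent.H699.CusG

open Cfsg.Agent.H477.HC Cfsg.Agent.H53.HC Cfsg.Agent.H53.HC.Gal Cfsg.Agent.Characters Module
open Cfsg.Agent.H139.Cusp Cfsg.Agent.H576.Ext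

universe u w

attribute [local instance] fintypeHom fintypeSub finite_quot

/-! ### numbers -/

theorem dvd_pow_mul_sub {M r : ℤ} {N : ℕ} (hM : M ∣ r ^ N - 1) (t : ℕ) : M ∣ r ^ (N * t) - 1 := by
  refine hM.trans ?_
  have := sub_dvd_pow_sub_pow (r ^ N) 1 t
  rwa [one_pow, ← pow_mul] at this

/-- folding an exponent into `[0, N / 2]` -/
theorem fold {M r a s : ℤ} {N u : ℕ} (hN : 0 < N) (hM : M ∣ r ^ N - 1) (hs : s * s = 1) (h : M ∣ a * (r ^ u - s)) :
    ∃ v, 2 * v ≤ N ∧ M ∣ a * (r ^ v - s) ∧ ∀ f, f ∣ N → (f ∣ v ↔ f ∣ u) := by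
  have hw : u % N < N := Nat.mod_lt _ hN
  have hu : u = N * (u / N) + u % N := (Nat.div_add_mod u N).symm
  have h1 : M ∣ a * (r ^ (u % N) - s) := by
    have h2 := dvd_pow_mul_sub hM (u / N)
    have h3 : a * (r ^ (u % N) - s) = a * (r ^ u - s) - (a * r ^ (u % N)) * (r ^ (N * (u / N)) - 1) := by
      have h4 : r ^ u = r ^ (N * (u / N)) * r ^ (u % N) := by rw [← pow_add, ← hu]
      rw [h4]; ring
    rw [h3]
    exact dvd_sub h (Dvd.dvd.mul_left h2 _)
  have hf1 : ∀ f, f ∣ N → (f ∣ u % N ↔ f ∣ u) := fun f hf => (Nat.dvd_mod_iff hf)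
  rcases le_or_gt (2 * (u % N)) N with h2 | h2
  · exact ⟨u % N, h2, h1, hf1⟩
  · refine ⟨N - u % N, by omega, ?_, fun f hf => ?_⟩
    · have h3 : r ^ N = r ^ (N - u % N) * r ^ (u % N) := by rw [← pow_add, Nat.sub_add_cancel hw.le]
      have h4 : a * (r ^ (N - u % N) - s) =
          (-s) * (r ^ (N - u % N) * (a * (r ^ (u % N) - s))) + (s * a) * (r ^ N - 1) := by
        rw [h3]
        linear_combination (-(a * r ^ (N - u % N))) * hs
      rw [h4]
      exact dvd_add (Dvd.dvd.mul_left (Dvd.dvd.mul_left h1 _) _) (Dvd.dvd.mul_left hM _)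
    · rw [← hf1 f hf]
      have h3 : N = (N - u % N) + u % N := (Nat.sub_add_cancel hw.le).symm
      constructor
      · intro h4
        exact (Nat.dvd_add_right h4).1 (h3 ▸ hf)
      · intro h4
        exact Nat.dvd_sub hf h4

/-- the congruence `a r ^ t = s a q ^ i` modulo `M` -/
theorem fold' {M r a s : ℤ} {f k t i : ℕ} (hf : 0 < f) (hk : 0 < k) (hi : i ≤ k) (hM : M ∣ r ^ (f * k) - 1)
    (hs : s * s = 1) (h : M ∣ a * r ^ t - s * (a * (r ^ f) ^ i)) :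
    ∃ v, 2 * v ≤ f * k ∧ M ∣ a * (r ^ v - s) ∧ ∀ g, g ∣ f * k → (g ∣ v ↔ g ∣ t + (f * k - f * i)) := by
  have hle : f * i ≤ f * k := Nat.mul_le_mul_left f hi
  refine fold (Nat.mul_pos hf hk) hM hs ?_
  have h1 : r ^ (f * k) = r ^ (f * k - f * i) * r ^ (f * i) := by rw [← pow_add, Nat.sub_add_cancel hle]
  have h2 : a * (r ^ (t + (f * k - f * i)) - s) = r ^ (f * k - f * i) * (a * r ^ t - s * (a * (r ^ f) ^ i)) +
      (s * a) * (r ^ (f * k) - 1) := by
    rw [h1, pow_add, ← pow_mul]; ring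
  rw [h2]
  exact dvd_add (Dvd.dvd.mul_left h _) (Dvd.dvd.mul_left hM _)

/-- the size estimate -/
theorem size {q k M a X : ℕ} {s : ℤ} (hq : 2 ≤ q) (ha : 0 < a) (hX : 1 ≤ X) (hM : M * (q - 1) = q ^ k - 1)
    (hXX : X * X ≤ q ^ k) (hbig : (a * (q - 1) + 1) * (a * (q - 1) + 1) < q ^ k) (hs : s = 1 ∨ s = -1)
    (h : (M : ℤ) ∣ (a : ℤ) * ((X : ℤ) - s)) : s = 1 ∧ X = 1 := by
  by_contra hcon
  have hpos : 0 < (a : ℤ) * ((X : ℤ) - s) := by
    refine mul_pos (by exact_mod_cast ha) ?_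
    rcases hs with rfl | rfl
    · have : X ≠ 1 := fun e => hcon ⟨rfl, e⟩
      have : (1 : ℤ) < X := by exact_mod_cast (by omega : 1 < X)
      linarith
    · have : (0 : ℤ) ≤ X := by positivity
      linarith
  have h1 : (M : ℤ) ≤ a * (X + 1) := by
    refine (Int.le_of_dvd hpos h).trans ?_
    refine mul_le_mul_of_nonneg_left ?_ (by positivity)
    rcases hs with rfl | rfl <;> linarith
  have h2 : M ≤ a * (X + 1) := by exact_mod_cast h1
  have h3 : q ^ k - 1 ≤ a * (q - 1) * (X + 1) := by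
    rw [← hM]
    calc M * (q - 1) ≤ a * (X + 1) * (q - 1) := Nat.mul_le_mul_right _ h2
      _ = a * (q - 1) * (X + 1) := by ring
  set A := a * (q - 1) with hA
  have hA1 : 1 ≤ A := Nat.mul_pos ha (by omega)
  rcases le_or_gt X (A + 1) with h4 | h4
  · have h5 : A * (X + 1) ≤ A * (A + 2) := Nat.mul_le_mul_left _ (by omega)
    have h6 : A * (A + 2) + 1 = (A + 1) * (A + 1) := by ring
    omega
  · have h5 : A * (X + 1) ≤ (X - 2) * (X + 1) := Nat.mul_le_mul_right _ (by omega)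
    obtain ⟨y, rfl⟩ : ∃ y, X = y + 2 := ⟨X - 2, by omega⟩
    have h6 : (y + 2 - 2) * (y + 2 + 1) + (y + 4) = (y + 2) * (y + 2) := by
      rw [Nat.add_sub_cancel]; ring
    omega

/-! ### the data -/

section data

variable {K : Type u} [Field K] [Finite K] {L : Type w} [Field L] [Finite L] [Algebra K L] {k : ℕ}
  {φ : L →*₀ ℂ} (hφ : Function.Injective φ)

theorem index_bot' : (⊥ : Subgroup Kˣ).index = Nat.card K - 1 := by
  rw [Subgroup.index_bot, Nat.card_units]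

include hφ

theorem cusG_mk (hn : Module.finrank K L = k) (hk : 2 ≤ k) {a M : ℕ} (ha : a ≠ 0)
    (hM : M * (Nat.card K - 1) = Nat.card K ^ k - 1)
    (hself : ∀ i, 0 < i → i < k → ¬ (M : ℤ) ∣ (a : ℤ) - a * (Nat.card K : ℤ) ^ i)
    (hopp : 3 ≤ k → ∀ i < k, ¬ (M : ℤ) ∣ (a : ℤ) + a * (Nat.card K : ℤ) ^ i)
    (hdual : ∀ i < k, ¬ ((Nat.card K ^ k - 1 : ℕ) : ℤ) ∣ (a : ℤ) + a * (Nat.card K : ℤ) ^ i)
    (hnu : ∃ ν : Kˣ →* ℂˣ, ∀ z : Kˣ, powTheta φ a ha (algebraMap K L z) = (ν (z * z) : ℂ)) :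
    CusG K k (RingHom.id K) (psi (n := k) (F := K) L (powTheta φ a ha)) := by
  classical
  have hM' : M * (⊥ : Subgroup Kˣ).index = Nat.card K ^ k - 1 := by rw [index_bot', hM]
  have hM2 : (M : ℤ) ∣ ((Nat.card K ^ k - 1 : ℕ) : ℤ) := by
    rw [← hM]; exact Int.natCast_dvd_natCast.2 (dvd_mul_right _ _)
  have hirr : IsIrrCharacter _ (psi (n := k) (F := K) L (powTheta φ a ha)) := by
    refine psi_isIrr _ hn ((regular_powTheta_iff hφ ha hn).2 fun i hi0 hi h1 => hself i hi0 hi ?_)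
    have h2 : ((Nat.card K ^ k - 1 : ℕ) : ℤ) ∣ ((a * (Nat.card K ^ i - 1) : ℕ) : ℤ) := Int.natCast_dvd_natCast.2 h1
    have h3 : (a : ℤ) - a * (Nat.card K : ℤ) ^ i = -((a * (Nat.card K ^ i - 1) : ℕ) : ℤ) := by
      have : 1 ≤ Nat.card K ^ i := Nat.one_le_pow _ _ Nat.card_pos
      push_cast [Nat.cast_sub this]; ring
    rw [h3, dvd_neg]
    exact hM2.trans h2
  refine ⟨hirr, psi_isCusp L _, ?_, ?_, dirr_pow hφ hn (by omega) ⊥ hM' ha hself, fun h3 => ?_, ?_⟩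
  · -- dual
    intro h
    have hT : (Nat.card K ^ k - 1) * (⊤ : Subgroup Kˣ).index = Nat.card K ^ k - 1 := by
      rw [Subgroup.index_top, mul_one]
    have : Finite (Matrix (Fin k) (Fin k) K) := inferInstance
    have : Finite (GL (Fin k) K) := inferInstance
    have : Fintype (DL (⊤ : Subgroup Kˣ) k) := Fintype.ofFinite _
    have h1 := dorth_pow_conj hφ hn ⊤ hT ha ha hdual
    have h2 : dualc (RingHom.id K) (psi (n := k) (F := K) L (powTheta φ a ha)) =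
      psi (n := k) (F := K) L (powTheta φ a ha) := h
    rw [dualc_psi_id hn] at h2
    rw [h2] at h1
    have h4 := h1
    have h5 : (∑ A : DL (⊤ : Subgroup Kˣ) k, psi (n := k) (F := K) L (powTheta φ a ha) (A : GL (Fin k) K) *
        conj (psi (n := k) (F := K) L (powTheta φ a ha) (A : GL (Fin k) K))).re = 0 := by
      rw [h4, Complex.zero_re]
    rw [Complex.re_sum] at h5
    have h6 := (Finset.sum_eq_zero_iff_of_nonneg (fun A _ => by
      rw [Complex.mul_conj, Complex.ofReal_re]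
      exact Complex.normSq_nonneg _)).1 h5 1 (Finset.mem_univ _)
    rw [Complex.mul_conj, Complex.ofReal_re, Complex.normSq_eq_zero] at h6
    exact Core.isIrr_apply_one_ne_zero hirr h6
  · rw [psi_one L _ (by omega), degP_eq_Ico]
  · rw [dualc_psi_id hn]
    exact dorth_pow_conj hφ hn ⊥ hM' ha ha (hopp h3)
  · obtain ⟨ν, hν⟩ := hnu
    refine ⟨ν, fun z A => ?_⟩
    have h1 : Units.map ((RingHom.id K : K →+* K) : K →* K) z = z := by
      apply Units.ext; rfl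
    rw [psi_scalar _ hn, hν, h1]

theorem genAt_mk (hn : Module.finrank K L = k) (D : Subgroup Kˣ) {p : ℕ} [Fact p.Prime] [CharP K p] {t : ℕ} {a M : ℕ}
    (ha : a ≠ 0) (hM : M * D.index = Nat.card K ^ k - 1) (τ : K ≃+* K) (hτ : ∀ x : K, τ x = x ^ p ^ t)
    (h1 : ∀ i < k, ¬ (M : ℤ) ∣ (a : ℤ) * p ^ t - a * (Nat.card K : ℤ) ^ i)
    (h2 : ∀ i < k, ¬ (M : ℤ) ∣ (a : ℤ) * p ^ t + a * (Nat.card K : ℤ) ^ i) :
    GenAt K k (RingHom.id K) D τ (psi (n := k) (F := K) L (powTheta φ a ha)) := by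
  have hp : 0 < p ^ t := pow_pos (Fact.out : p.Prime).pos t
  have e1 : powTheta (powTheta φ a ha) (p ^ t) hp.ne' = powTheta φ (a * p ^ t) (mul_ne_zero ha hp.ne') := by
    ext x
    rw [powTheta_apply, powTheta_apply, powTheta_apply, pow_mul]
  have e2 : fmap (τ : K →+* K) (psi (n := k) (F := K) L (powTheta φ a ha)) =
      psi L (powTheta φ (a * p ^ t) (mul_ne_zero ha hp.ne')) := by
    rw [fmap_psi hn (p := p) (j := t) hτ, e1]
  refine ⟨?_, ?_⟩
  · rw [e2]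
    refine dorth_pow hφ hn D hM ha _ fun i hi h => h1 i hi ?_
    push_cast at h
    exact h
  · rw [e2, dualc_psi_id hn]
    refine dorth_pow_conj hφ hn D hM ha _ fun i hi h => h2 i hi ?_
    push_cast at h
    exact h

end data

/-! ### the numerical conditions -/

section num

variable {p f k a M q : ℕ}

/-- `M (q - 1) = q ^ k - 1` : `M ∣ q ^ k - 1` as integers -/
theorem dvd_int (hp : 0 < p) (hq : q = p ^ f) (hM : M * (q - 1) = q ^ k - 1) : (M : ℤ) ∣ (p : ℤ) ^ (f * k) - 1 := by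
  have h1 : ((q ^ k - 1 : ℕ) : ℤ) = (p : ℤ) ^ (f * k) - 1 := by
    have : 1 ≤ q ^ k := Nat.one_le_pow _ _ (by rw [hq]; exact pow_pos hp _)
    rw [Nat.cast_sub this, hq]
    push_cast
    rw [← pow_mul]
  rw [← h1, ← hM]
  exact Int.natCast_dvd_natCast.2 (dvd_mul_right _ _)

/-- all the conditions from one: `k ≥ 3` -/
theorem key_three (hp : 2 ≤ p) (hf : 0 < f) (hk : 3 ≤ k) (hq : q = p ^ f) (ha : 0 < a)
    (hM : M * (q - 1) = q ^ k - 1) (hbig : (a * (q - 1) + 1) * (a * (q - 1) + 1) < q ^ k) {s : ℤ}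
    (hs : s = 1 ∨ s = -1) {t i : ℕ} (hi : i ≤ k) (h : (M : ℤ) ∣ (a : ℤ) * (p : ℤ) ^ t - s * (a * (q : ℤ) ^ i)) :
    s = 1 ∧ f * k ∣ t + (f * k - f * i) := by
  have hs2 : s * s = 1 := by rcases hs with rfl | rfl <;> norm_num
  have hq2 : 2 ≤ q := by
    rw [hq]
    calc 2 ≤ p := hp
      _ = p ^ 1 := (pow_one p).symm
      _ ≤ p ^ f := Nat.pow_le_pow_right (by omega) hf
  rw [hq] at h
  push_cast at h
  obtain ⟨v, hv, h1, h2⟩ := fold' hf (by omega) hi (dvd_int (by omega) hq hM) hs2 h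
  have h3 : p ^ v * p ^ v ≤ q ^ k := by
    rw [hq, ← pow_mul, ← pow_add]
    exact Nat.pow_le_pow_right (by omega) (by omega)
  have h4 := size (X := p ^ v) hq2 ha (Nat.one_le_pow _ _ (by omega)) hM h3 hbig hs (by push_cast; exact h1)
  refine ⟨h4.1, ?_⟩
  have hv0 : v = 0 := by
    by_contra h0
    have : 1 < p ^ v := Nat.one_lt_pow h0 (by omega)
    omega
  rw [← h2 _ (dvd_refl _), hv0]
  exact dvd_zero _

/-- the Galois conditions, `k = 2` -/
theorem key_two (hp : 2 ≤ p) (hf : 0 < f) (hq : q = p ^ f) (hap : (a = 1) ∨ (a = 2 ∧ 3 ≤ p))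
    (hM : M * (q - 1) = q ^ 2 - 1) {s : ℤ} (hs : s = 1 ∨ s = -1) {t i : ℕ} (hi : i ≤ 2) (ht : ¬ f ∣ t)
    (h : (M : ℤ) ∣ (a : ℤ) * (p : ℤ) ^ t - s * (a * (q : ℤ) ^ i)) : False := by
  have hs2 : s * s = 1 := by rcases hs with rfl | rfl <;> norm_num
  have ha : 0 < a := by omega
  have hq2 : 2 ≤ q := by
    rw [hq]
    calc 2 ≤ p := hp
      _ = p ^ 1 := (pow_one p).symm
      _ ≤ p ^ f := Nat.pow_le_pow_right (by omega) hf
  have hM1 : M = q + 1 := by
    have h1 : q ^ 2 - 1 = (q + 1) * (q - 1) := by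
      have := Nat.sq_sub_sq q 1
      rw [one_pow] at this
      exact this
    exact Nat.eq_of_mul_eq_mul_right (by omega) (hM.trans h1)
  rw [hq] at h
  push_cast at h
  obtain ⟨v, hv, h1, h2⟩ := fold' hf (by omega) hi (dvd_int (by omega) hq hM) hs2 h
  have hfv : ¬ f ∣ v := by
    rw [h2 f (dvd_mul_right _ _)]
    intro h3
    apply ht
    have h4 : f ∣ f * 2 - f * i := by rw [← Nat.mul_sub]; exact dvd_mul_right _ _
    exact (Nat.dvd_add_left h4).1 h3
  have hv0 : v ≠ 0 := fun e => hfv (e ▸ dvd_zero _)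
  have hvf : v < f := lt_of_le_of_ne (by omega) (fun e => hfv (e ▸ dvd_refl _))
  have hX1 : 1 < p ^ v := Nat.one_lt_pow hv0 (by omega)
  have hXq : p ^ v * p ≤ q := by
    rw [hq, ← pow_succ]
    exact Nat.pow_le_pow_right (by omega) (by omega)
  have hpv : p ≤ p ^ v := by
    calc p = p ^ 1 := (pow_one p).symm
      _ ≤ p ^ v := Nat.pow_le_pow_right (by omega) (by omega)
  have hpos : 0 < (a : ℤ) * ((p : ℤ) ^ v - s) := by
    refine mul_pos (by exact_mod_cast ha) ?_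
    have h3 : (1 : ℤ) < (p : ℤ) ^ v := by exact_mod_cast hX1
    rcases hs with rfl | rfl <;> linarith
  have h3 : (M : ℤ) ≤ a * ((p : ℤ) ^ v + 1) := by
    refine (Int.le_of_dvd hpos h1).trans ?_
    refine mul_le_mul_of_nonneg_left ?_ (by positivity)
    rcases hs with rfl | rfl <;> linarith
  have h4 : M ≤ a * (p ^ v + 1) := by exact_mod_cast h3
  rw [hM1] at h4
  rcases hap with rfl | ⟨rfl, hp3⟩
  · have : p ^ v * 2 ≤ p ^ v * p := Nat.mul_le_mul_left _ hp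
    omega
  · have h5 : p ^ v * 3 ≤ p ^ v * p := Nat.mul_le_mul_left _ hp3
    omega

end num

/-! ### the theorems -/

section main

variable {K : Type u} [Field K] [Finite K] {L : Type w} [Field L] [Finite L] [Algebra K L] {k : ℕ}
  {φ : L →*₀ ℂ}

theorem core (hφ : Function.Injective φ) {q : ℕ} (hq : Nat.card K = q) (hn : Module.finrank K L = k) (hk : 2 ≤ k)
    (h22 : ¬ (q = 2 ∧ k = 2)) (h32 : ¬ (q = 3 ∧ k = 2)) {a : ℕ} (ha : a ≠ 0)
    (hap : (a = 1 ∧ Even q) ∨ (a = 2 ∧ Odd q)) :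
    CusG K k (RingHom.id K) (psi (n := k) (F := K) L (powTheta φ a ha)) ∧
      ∀ τ : K ≃+* K, (∃ x, τ x ≠ x) → GenAt K k (RingHom.id K) ⊥ τ (psi (n := k) (F := K) L (powTheta φ a ha)) := by
  classical
  obtain ⟨p, hp'⟩ := CharP.exists K
  have : Fintype K := Fintype.ofFinite K
  have hFp : Fact p.Prime := ⟨CharP.char_is_prime K p⟩
  have hp : p.Prime := hFp.out
  obtain ⟨f, hf0, hf⟩ : ∃ f : ℕ, 0 < f ∧ Nat.card K = p ^ f := by
    obtain ⟨f, -, hf⟩ := FiniteField.card K p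
    exact ⟨f, f.2, by rw [Nat.card_eq_fintype_card, hf]⟩
  have hqp : q = p ^ f := hq.symm.trans hf
  have hq2 : 2 ≤ q := by rw [← hq]; exact Finite.one_lt_card
  have hap' : (a = 1) ∨ (a = 2 ∧ 3 ≤ p) := by
    rcases hap with ⟨h1, -⟩ | ⟨h1, h2⟩
    · exact Or.inl h1
    · refine Or.inr ⟨h1, ?_⟩
      rcases hp.two_le.eq_or_lt with h3 | h3
      · exfalso
        rw [hqp, ← h3] at h2
        exact (Nat.not_even_iff_odd.2 h2) ((Nat.even_pow.2 ⟨even_two, hf0.ne'⟩))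
      · exact h3
  have hapos : 0 < a := Nat.pos_of_ne_zero ha
  obtain ⟨M, hM⟩ : ∃ M, M * (q - 1) = q ^ k - 1 := by
    have h1 := Nat.sub_dvd_pow_sub_pow q 1 k
    rw [one_pow] at h1
    obtain ⟨M, hM⟩ := h1
    exact ⟨M, by rw [mul_comm, hM]⟩
  have hM2 : (M : ℤ) ∣ ((q ^ k - 1 : ℕ) : ℤ) := by
    rw [← hM]; exact Int.natCast_dvd_natCast.2 (dvd_mul_right _ _)
  have hbig : 3 ≤ k → (a * (q - 1) + 1) * (a * (q - 1) + 1) < q ^ k := by
    intro hk3
    have h1 : q ^ 3 ≤ q ^ k := Nat.pow_le_pow_right (by omega) hk3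
    refine lt_of_lt_of_le ?_ h1
    rcases hap' with rfl | ⟨rfl, h3⟩
    · have h2 : 1 * (q - 1) + 1 = q := by omega
      rw [h2, pow_succ, pow_two]
      exact (Nat.lt_mul_iff_one_lt_right (by positivity)).2 (by omega)
    · have h4 : 3 ≤ q := by
        rw [hqp]
        calc 3 ≤ p := h3
          _ = p ^ 1 := (pow_one p).symm
          _ ≤ p ^ f := Nat.pow_le_pow_right (by omega) hf0
      obtain ⟨y, rfl⟩ : ∃ y, q = y + 3 := ⟨q - 3, by omega⟩
      have h5 : y + 3 - 1 = y + 2 := by omega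
      rw [h5]
      nlinarith [Nat.zero_le (y ^ 3), Nat.zero_le (y ^ 2)]
  -- the two bounds for `k = 2`
  have hM1 : k = 2 → M = q + 1 := by
    rintro rfl
    have h1 : q ^ 2 - 1 = (q + 1) * (q - 1) := by
      have := Nat.sq_sub_sq q 1
      rw [one_pow] at this
      exact this
    exact Nat.eq_of_mul_eq_mul_right (by omega) (hM.trans h1)
  have hbig2 : k = 2 → (a = 1 ∧ 4 ≤ q) ∨ (a = 2 ∧ 5 ≤ q) := by
    rintro rfl
    rcases hap with ⟨h1, h2⟩ | ⟨h1, h2⟩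
    · refine Or.inl ⟨h1, ?_⟩
      obtain ⟨y, hy⟩ := h2
      have : q ≠ 2 := fun e => h22 ⟨e, rfl⟩
      omega
    · refine Or.inr ⟨h1, ?_⟩
      obtain ⟨y, hy⟩ := h2
      have : q ≠ 3 := fun e => h32 ⟨e, rfl⟩
      omega
  have hself : ∀ i, 0 < i → i < k → ¬ (M : ℤ) ∣ (a : ℤ) - a * (Nat.card K : ℤ) ^ i := by
    intro i hi0 hi h
    rw [hq] at h
    rcases hk.eq_or_lt with h2 | h2
    · have hk2 : k = 2 := h2.symm
      have hi1 : i = 1 := by omega
      rw [hM1 hk2, hi1, pow_one] at h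
      rcases hbig2 hk2 with ⟨rfl, h3⟩ | ⟨rfl, h3⟩
      · have h4 : ((q + 1 : ℕ) : ℤ) ∣ ((q - 1 : ℕ) : ℤ) := by
          have e : ((q - 1 : ℕ) : ℤ) = -(((1 : ℕ) : ℤ) - ((1 : ℕ) : ℤ) * (q : ℤ)) := by
            push_cast [Nat.cast_sub (by omega : 1 ≤ q)]; ring
          rw [e, dvd_neg]; exact h
        have h5 := Nat.le_of_dvd (by omega) (Int.natCast_dvd_natCast.1 h4)
        omega
      · have h4 : ((q + 1 : ℕ) : ℤ) ∣ ((4 : ℕ) : ℤ) := by
          have e : ((4 : ℕ) : ℤ) = (((2 : ℕ) : ℤ) - ((2 : ℕ) : ℤ) * (q : ℤ)) + 2 * ((q + 1 : ℕ) : ℤ) := by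
            push_cast; ring
          rw [e]; exact dvd_add h (dvd_mul_left _ _)
        have h5 := Nat.le_of_dvd (by omega) (Int.natCast_dvd_natCast.1 h4)
        omega
    · have h3 := key_three (t := 0) (s := 1) (i := i) hp.two_le hf0 h2 hqp hapos hM (hbig h2) (Or.inl rfl) hi.le
        (by rw [pow_zero, mul_one, one_mul]; exact h)
      have h4 : f * i < f * k := Nat.mul_lt_mul_of_pos_left hi hf0
      have h5 : 0 < f * i := Nat.mul_pos hf0 hi0
      have h6 := Nat.le_of_dvd (by omega) h3.2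
      omega
  have hopp : 3 ≤ k → ∀ i < k, ¬ (M : ℤ) ∣ (a : ℤ) + a * (Nat.card K : ℤ) ^ i := by
    intro hk3 i hi h
    rw [hq] at h
    have h3 := key_three (t := 0) (s := -1) (i := i) hp.two_le hf0 hk3 hqp hapos hM (hbig hk3) (Or.inr rfl) hi.le
        (by rw [pow_zero, mul_one, neg_one_mul, sub_neg_eq_add]; exact h)
    norm_num at h3
  have hdual : ∀ i < k, ¬ ((Nat.card K ^ k - 1 : ℕ) : ℤ) ∣ (a : ℤ) + a * (Nat.card K : ℤ) ^ i := by
    intro i hi h
    rcases hk.eq_or_lt with h2 | h2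
    · have hk2 : k = 2 := h2.symm
      rw [hq] at h
      have h3 : ((q ^ k - 1 : ℕ) : ℤ) ∣ ((a + a * q ^ i : ℕ) : ℤ) := by push_cast; exact h
      have h4 := Nat.le_of_dvd (by positivity) (Int.natCast_dvd_natCast.1 h3)
      rw [hk2] at h4
      have h5 : q ^ i ≤ q := by
        calc q ^ i ≤ q ^ 1 := Nat.pow_le_pow_right (by omega) (by omega)
          _ = q := pow_one q
      have h6 : a * q ^ i ≤ a * q := Nat.mul_le_mul_left _ h5
      rcases hbig2 hk2 with ⟨rfl, h8⟩ | ⟨rfl, h8⟩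
      · have h7 : 4 * q ≤ q ^ 2 := by rw [pow_two]; exact Nat.mul_le_mul_right _ h8
        omega
      · have h7 : 5 * q ≤ q ^ 2 := by rw [pow_two]; exact Nat.mul_le_mul_right _ h8
        omega
    · refine hopp h2 i hi ?_
      rw [hq] at h ⊢
      exact hM2.trans h
  refine ⟨cusG_mk hφ hn hk ha (by rw [hq]; exact hM) hself hopp hdual ?_, ?_⟩
  · -- nu
    obtain ⟨e, he⟩ : ∃ e : ℕ, ∀ z : Kˣ, (z : K) ^ (2 * e) = (z : K) ^ a := by
      rcases hap with ⟨rfl, h2⟩ | ⟨rfl, -⟩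
      · obtain ⟨y, hy⟩ := h2
        refine ⟨y, fun z => ?_⟩
        rw [pow_one, two_mul, ← hy, ← hq, Nat.card_eq_fintype_card]
        exact FiniteField.pow_card (z : K)
      · exact ⟨1, fun z => rfl⟩
    refine ⟨((Units.map (φ : L →* ℂ)).comp (Units.map (algebraMap K L : K →* L))) ^ e, fun z => ?_⟩
    have h1 : (((((Units.map (φ : L →* ℂ)).comp (Units.map (algebraMap K L : K →* L))) ^ e) (z * z) : ℂˣ) : ℂ) =
        (φ (algebraMap K L ((z * z : Kˣ) : K))) ^ e := rfl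
    rw [h1, powTheta_apply, ← map_pow φ, ← map_pow φ, ← map_pow (algebraMap K L), ← map_pow (algebraMap K L),
      Units.val_mul, ← pow_two, ← pow_mul, he]
  · intro τ hτ
    obtain ⟨j, hj⟩ := exists_frob_pow (p := p) τ
    have hfj : ¬ f ∣ j := by
      rintro ⟨c, rfl⟩
      obtain ⟨x, hx⟩ := hτ
      apply hx
      rw [hj, pow_mul, ← hf, Nat.card_eq_fintype_card]
      exact FiniteField.pow_card_pow c x
    have hbot : M * (⊥ : Subgroup Kˣ).index = Nat.card K ^ k - 1 := by rw [index_bot', hq, hM]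
    have hgen : ∀ s : ℤ, s = 1 ∨ s = -1 → ∀ i < k,
        ¬ (M : ℤ) ∣ (a : ℤ) * (p : ℤ) ^ j - s * (a * (q : ℤ) ^ i) := by
      intro s hs i hi h
      rcases hk.eq_or_lt with h2 | h2
      · have hk2 : k = 2 := h2.symm
        exact key_two (t := j) (i := i) hp.two_le hf0 hqp hap' (by rw [hM, hk2]) hs (by omega) hfj h
      · have h3 := key_three (t := j) (i := i) hp.two_le hf0 h2 hqp hapos hM (hbig h2) hs hi.le h
        have h4 : f ∣ f * k - f * i := by rw [← Nat.mul_sub]; exact dvd_mul_right _ _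
        exact hfj ((Nat.dvd_add_left h4).1 ((dvd_mul_right f k).trans h3.2))
    refine genAt_mk hφ hn ⊥ ha hbot τ hj (fun i hi h => ?_) (fun i hi h => ?_)
    · rw [hq] at h
      exact hgen 1 (Or.inl rfl) i hi (by rw [one_mul]; exact h)
    · rw [hq] at h
      exact hgen (-1) (Or.inr rfl) i hi (by rw [neg_one_mul, sub_neg_eq_add]; exact h)

end main

end Cfsg.Agent.H699.CusG

namespace Cfsg.Agent.H576.Ext

open Cfsg.Agent.H477.HC Cfsg.Agent.H53.HC Cfsg.Agent.Characters Module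
open Cfsg.Agent.H139.Cusp Cfsg.Agent.H699.CusG

universe u

/-- linear case: `θ = φ ^ a`, `a = 2` for `q` odd, `a = 1` for `q` even -/
theorem exists_cusG {K : Type u} [Field K] [Finite K] {q : ℕ} (hq : Nat.card K = q) (k : ℕ) (hk : 2 ≤ k)
    (h22 : ¬ (q = 2 ∧ k = 2)) (h32 : ¬ (q = 3 ∧ k = 2)) :
    ∃ c : GL (Fin k) K → ℂ, CusG K k (RingHom.id K) c ∧ ∀ τ : K ≃+* K, (∃ x, τ x ≠ x) → GenAt K k (RingHom.id K) ⊥ τ c := by
  obtain ⟨L, _, _, _, hL⟩ := exists_L K k (by omega)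
  obtain ⟨φ, hφ⟩ := exists_theta L
  rcases Nat.even_or_odd q with h | h
  · exact ⟨_, core hφ hq hL hk h22 h32 one_ne_zero (Or.inl ⟨rfl, h⟩)⟩
  · exact ⟨_, core hφ hq hL hk h22 h32 two_ne_zero (Or.inr ⟨rfl, h⟩)⟩

/-- linear case, `k = 2`, `q` odd: orthogonality to the dual on the matrices of square determinant -/
theorem exists_cusG_two {K : Type u} [Field K] [Finite K] {q : ℕ} (hq : Nat.card K = q) (ho : Odd q) (h5 : 7 ≤ q) :
    ∃ c : GL (Fin 2) K → ℂ, CusG K 2 (RingHom.id K) c ∧ (∀ τ : K ≃+* K, (∃ x, τ x ≠ x) → GenAt K 2 (RingHom.id K) ⊥ τ c) ∧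
      DOrth ((powMonoidHom 2 : Kˣ →* Kˣ).range) c (dualc (RingHom.id K) c) := by
  obtain ⟨L, _, _, _, hL⟩ := exists_L K 2 (by omega)
  obtain ⟨φ, hφ⟩ := exists_theta L
  have h1 := core (K := K) hφ hq hL le_rfl (by omega) (by omega) two_ne_zero (Or.inr ⟨rfl, ho⟩)
  refine ⟨_, h1.1, h1.2, ?_⟩
  have hind : ((powMonoidHom 2 : Kˣ →* Kˣ).range).index ≤ 2 := by
    rw [IsCyclic.index_powMonoidHom_range]
    exact Nat.gcd_le_right _ (by omega)
  rw [dualc_psi_id hL]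
  obtain ⟨x, -, hx⟩ := exists_gen (K := K) hL ((powMonoidHom 2 : Kˣ →* Kˣ).range)
  refine @dorth_pow_conj K _ _ L _ _ _ 2 φ hφ hL _ _ hx _ _ two_ne_zero two_ne_zero fun i hi h => ?_
  rw [hq] at hx h
  have h3 : ((orderOf x : ℕ) : ℤ) ∣ ((2 + 2 * q ^ i : ℕ) : ℤ) := by push_cast; push_cast at h; exact h
  have h4 := Nat.le_of_dvd (by positivity) (Int.natCast_dvd_natCast.1 h3)
  have h6 : q ^ i ≤ q := by
    calc q ^ i ≤ q ^ 1 := Nat.pow_le_pow_right (by omega) (by omega)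
      _ = q := pow_one q
  have h7 : 7 * q ≤ q ^ 2 := by rw [pow_two]; exact Nat.mul_le_mul_right _ h5
  have h8 : orderOf x * ((powMonoidHom 2 : Kˣ →* Kˣ).range).index ≤ orderOf x * 2 := Nat.mul_le_mul_left _ hind
  omega

end Cfsg.Agent.H576.Ext
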