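import Mathlib
import Cfsg.Prelude.Def_Blocks
import Cfsg.Prelude.Def_Transfer
import Cfsg.Prelude.Def_Local
import Cfsg.Agent.H710.SumSquares
import Cfsg.Agent.S0081
import Cfsg.Agent.Lib.FrattiniPGroup
import Cfsg.Agent.Lib.Cores
import Cfsg.Agent.Transfer.NormalPComplement

/-!
# Normal subgroups in the kernels of the characters of degree prime to `p` (helper699)

* `apply_mul_of_apply_eq`: `χ (x * y) = χ y` if `χ x = χ 1`;
* `inf_sylow_le`: if `L` lies in the kernel of every irreducible character of degree prime to `p`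
  then `L ∩ P ≤ P'`;
* `isPGroup_of_inf_le`: a normal subgroup `R` with `R ∩ P ≤ P'` is a `p`-group if `O_{p'}(G) = 1`
  (Tate's theorem).
-/

set_option autoImplicit false

namespace Cfsg.Agent.H699.KerDerived

open Cfsg Cfsg.Agent.Characters.Core Cfsg.Agent.Blocks
open scoped ComplexConjugate

variable {H : Type*} [Group H]

theorem apply_mul_of_apply_eq [Finite H] {χ : H → ℂ} (hχ : IsIrrCharacter H χ) {x : H}
    (hx : χ x = χ 1) (y : H) : χ (x * y) = χ y := by
  obtain ⟨n, ρ, hρ, rfl⟩ := hχ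
  rw [Representation.char_one, Cfsg.Agent.Characters.Values.character_eq_finrank_iff] at hx
  rw [Representation.character, Representation.character, map_mul, hx, Module.End.mul_eq_comp,
    LinearMap.id_comp]

/-- If `L` lies in the kernel of every irreducible character of degree prime to `p` then
`L ∩ P ≤ P'`. -/
theorem inf_sylow_le [Finite H] {p : ℕ} [Fact p.Prime] (P : Sylow p H) (L : Subgroup H)
    (h : ∀ χ : IrrCharacter H, ¬ p ∣ charDegree (χ : H → ℂ) →
      ∀ x ∈ L, (χ : H → ℂ) x = (χ : H → ℂ) 1) :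
    L ⊓ (P : Subgroup H) ≤ (commutator ↥(P : Subgroup H)).map (P : Subgroup H).subtype := by
  classical
  have hpP : p.Prime := Fact.out
  have := Fintype.ofFinite H
  have := Fintype.ofFinite (P : Subgroup H)
  rintro x ⟨hxL, hxP⟩
  by_contra hcon
  have hx' : (⟨x, hxP⟩ : (P : Subgroup H)) ∉ commutator ↥(P : Subgroup H) := by
    intro h1
    exact hcon ⟨_, h1, rfl⟩
  obtain ⟨θ, hθ, hθx⟩ := Cfsg.Agent.H710.PPrimeDeg.exists_irr_apply_ne
    (commutator ↥(P : Subgroup H)) hx'
  have hθp : ¬ p ∣ charDegree (θ : ↥(P : Subgroup H) → ℂ) := by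
    refine Cfsg.Agent.H710.PPrimeDeg.not_dvd_of_apply_eq (⊤ : Subgroup (P : Subgroup H))
      (by rw [Subgroup.index_top]; exact hpP.not_dvd_one) (commutator ↥(P : Subgroup H)) ?_ le_top
      θ.2 hθ
    intro a _ b _
    exact Subgroup.commutator_mem_commutator (Subgroup.mem_top a) (Subgroup.mem_top b)
  have hθ1 : charDegree (θ : ↥(P : Subgroup H) → ℂ) = 1 := by
    obtain ⟨k, hk⟩ := (IsPGroup.iff_card).1 P.isPGroup'
    have h1 := Cfsg.Agent.H710.PPrimeDeg.charDegree_dvd_card θ.2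
    rw [hk] at h1
    obtain ⟨j, -, hj⟩ := (Nat.dvd_prime_pow hpP).1 h1
    rcases Nat.eq_zero_or_pos j with h0 | h0
    · rw [hj, h0, pow_zero]
    · exact absurd (hj ▸ dvd_pow_self p h0.ne') hθp
  obtain ⟨f, hf⟩ := Cfsg.Agent.Characters.Linear.exists_hom_of_isIrrCharacter θ.2
    (by rw [Basic.irr_one_eq_charDegree θ.2, hθ1, Nat.cast_one])
  obtain ⟨χ, hχ, hover⟩ := Cfsg.Agent.H710.SumSquares.exists_over (P : Subgroup H) P.not_dvd_index
    θ hθp
  have hker := h χ hχ x hxL
  apply hθx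
  set x' : (P : Subgroup H) := ⟨x, hxP⟩ with hx'def
  have h1 : classInner (fun n : (P : Subgroup H) => (χ : H → ℂ) n) (θ : ↥(P : Subgroup H) → ℂ) =
      conj ((f x' : ℂˣ) : ℂ) *
      classInner (fun n : (P : Subgroup H) => (χ : H → ℂ) n) (θ : ↥(P : Subgroup H) → ℂ) := by
    conv_lhs => rw [classInner_def]
    rw [classInner_def, mul_left_comm]
    congr 1
    rw [Finset.mul_sum, ← Equiv.sum_comp (Equiv.mulLeft x')]
    refine Finset.sum_congr rfl fun y _ => ?_
    rw [Equiv.coe_mulLeft, hf]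
    show (χ : H → ℂ) ((x' : H) * (y : H)) * conj ((f (x' * y) : ℂˣ) : ℂ) = _
    rw [map_mul, Units.val_mul, map_mul]
    show (χ : H → ℂ) (x * (y : H)) * _ = _
    rw [apply_mul_of_apply_eq χ.2 hker]
    ring
  have h2 : conj ((f x' : ℂˣ) : ℂ) = 1 := by
    have h3 := sub_eq_zero.2 h1
    rw [← one_sub_mul] at h3
    rcases mul_eq_zero.1 h3 with h4 | h4
    · linear_combination -h4
    · exact absurd h4 hover
  have h3 : ((f x' : ℂˣ) : ℂ) = 1 := by
    have := congrArg conj h2
    simpa using this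
  rw [hf]
  show ((f x' : ℂˣ) : ℂ) = ((f 1 : ℂˣ) : ℂ)
  rw [h3, map_one, Units.val_one]

/-- A normal subgroup `R` with `R ∩ P ≤ P'` is a `p`-group if `O_{p'}(G) = 1`. -/
theorem isPGroup_of_inf_le [Finite H] {p : ℕ} [Fact p.Prime] (P : Sylow p H) (R : Subgroup H)
    [hR : R.Normal]
    (h : R ⊓ (P : Subgroup H) ≤ (commutator ↥(P : Subgroup H)).map (P : Subgroup H).subtype)
    (hO : pPrimeCore p H = ⊥) : IsPGroup p R := by
  have h1 : HasNormalPComplement p R := by
    refine Cfsg.Agent.S0081.result P R (h.trans (Subgroup.map_mono ?_))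
    exact Cfsg.Agent.Lib.FrattiniPGroup.commutator_le_frattini P.isPGroup'
  rw [Transfer.NormalPComplement.hasNormalPComplement_iff] at h1
  obtain ⟨K, hK, hKc, hKp⟩ := h1
  have h2 : K = ⊥ := by
    have h3 : K ≤ pPrimeCore p R := Lib.Cores.le_pPrimeCore hK hKc
    have h4 := Lib.Cores.map_subtype_pPrimeCore p hR
    rw [hO, inf_bot_eq] at h4
    have h5 : K.map R.subtype ≤ ⊥ := h4 ▸ Subgroup.map_mono h3
    rw [le_bot_iff, Subgroup.map_eq_bot_iff, Subgroup.ker_subtype, le_bot_iff] at h5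
    exact h5
  subst h2
  exact hKp.of_equiv QuotientGroup.quotientBot

end Cfsg.Agent.H699.KerDerived
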